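import Groth.Agent.KFlatLib.AffinePull
import Groth.Agent.FCohLib.AffMod
import Groth.Agent.DevissExtLib.Tools
import Groth.Agent.GenFlatStrat.FGExtend
import Groth.Agent.RGFlatLib.Local
import Groth.Agent.QCohLib.SerreCrit

/-!
# Quasi-coherent modules through the sections on an affine cover, pullbacks along closed immersions
-/

set_option autoImplicit false
set_option linter.style.haveILetI false
set_option linter.unusedSectionVars false
set_option backward.isDefEq.respectTransparency false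
set_option backward.isDefEq.respectTransparency.types false
set_option maxHeartbeats 1000000
universe u

open CategoryTheory CategoryTheory.Limits AlgebraicGeometry TopologicalSpace Opposite
open KFlatLib (pb puSec)

noncomputable section

namespace HilbObsLib

variable {X : Scheme.{u}}

theorem epi_of_app_surjective {M N : X.Modules} (φ : M ⟶ N) [Coh.IsQCoh M] [Coh.IsQCoh N]
    (h : ∀ x : X, ∃ (U : X.Opens) (_ : IsAffineOpen U), x ∈ U ∧ Function.Surjective (φ.app U)) : Epi φ := by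
  refine QCohLib.epi_of_surjective_on_affines φ fun V s p hp => ?_
  obtain ⟨U, hU, hpU, hsurj⟩ := h p
  obtain ⟨f, hfV, hpf⟩ := QCohLib.exists_basicOpen_nhd hU hp hpU
  obtain ⟨n, m, hm⟩ := (QCohLib.localizingAt_of_isQCoh hU N f).exists_extend
    (N.presheaf.map (homOfLE hfV).op s)
  obtain ⟨a, rfl⟩ := hsurj m
  obtain ⟨v, hv⟩ := ((QCohLib.isUnit_res f (le_refl (X.basicOpen f))).pow n)
  refine ⟨X.basicOpen f, hfV, hpf, (↑v⁻¹ : Γ(X, X.basicOpen f)) • M.presheaf.map (homOfLE (X.basicOpen_le f)).op a, ?_⟩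
  have hnat : φ.app (X.basicOpen f) (M.presheaf.map (homOfLE (X.basicOpen_le f)).op a) =
      N.presheaf.map (homOfLE (X.basicOpen_le f)).op (φ.app U a) :=
    congr($(φ.mapPresheaf.naturality (homOfLE (X.basicOpen_le f)).op) a)
  rw [QCohLib.app_smul, hnat]
  refine (congrArg (fun z => (↑v⁻¹ : Γ(X, X.basicOpen f)) • z) hm).trans ?_
  rw [← hv, smul_smul, Units.inv_mul, one_smul]

theorem eq_zero_of_app {M N : X.Modules} (φ : M ⟶ N) [Coh.IsQCoh M] [Coh.IsQCoh N]
    (h : ∀ x : X, ∃ (U : X.Opens) (_ : IsAffineOpen U), x ∈ U ∧ ∀ s, φ.app U s = 0) : φ = 0 := by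
  haveI : Coh.IsQCoh (kernel φ) := QCohLib.isQCoh_kernel φ
  haveI : Epi (kernel.ι φ) := epi_of_app_surjective _ fun x => by
    obtain ⟨U, hU, hx, h0⟩ := h x
    exact ⟨U, hU, hx, fun s => QCohLib.exists_of_app_eq_zero (S := ShortComplex.mk (kernel.ι φ) φ (kernel.condition φ))
      (ShortComplex.exact_of_f_is_kernel _ (kernelIsKernel φ)) (inferInstanceAs (Mono (kernel.ι φ))) s (h0 s)⟩
  rw [← cancel_epi (kernel.ι φ), kernel.condition, comp_zero]

theorem exact_of_app (S : ShortComplex X.Modules) [Coh.IsQCoh S.X₁] [Coh.IsQCoh S.X₂] [Coh.IsQCoh S.X₃]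
    (h : ∀ x : X, ∃ (U : X.Opens) (_ : IsAffineOpen U), x ∈ U ∧
      ∀ s, S.g.app U s = 0 → ∃ r, S.f.app U r = s) : S.Exact := by
  rw [ShortComplex.exact_iff_epi_kernel_lift]
  haveI : Coh.IsQCoh (kernel S.g) := QCohLib.isQCoh_kernel S.g
  refine epi_of_app_surjective _ fun x => ?_
  obtain ⟨U, hU, hx, hU'⟩ := h x
  refine ⟨U, hU, hx, fun z => ?_⟩
  obtain ⟨r, hr⟩ := hU' ((kernel.ι S.g).app U z) (congrArg (fun θ : kernel S.g ⟶ S.X₃ => θ.app U z) (kernel.condition S.g))
  refine ⟨r, QCohLib.app_injective_of_mono (kernel.ι S.g) U ?_⟩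
  exact (congrArg (fun θ : S.X₁ ⟶ S.X₂ => θ.app U r) (kernel.lift_ι S.g S.f S.zero)).trans hr

section Pull

variable {Y : Scheme.{u}} (g : X ⟶ Y)

theorem puSec_res {M : Y.Modules} {U V : Y.Opens} (h : V ≤ U) (m : Γ(M, U)) :
    puSec g (M.presheaf.map (homOfLE h).op m) =
      (pb g M).presheaf.map (homOfLE (fun _ hx => h hx : g ⁻¹ᵁ V ≤ g ⁻¹ᵁ U)).op (puSec g m) :=
  congr($(((Scheme.Modules.pullbackPushforwardAdjunction g).unit.app M).mapPresheaf.naturality (homOfLE h).op) m)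

theorem homEquiv_app {M : Y.Modules} {N : X.Modules} (r : pb g M ⟶ N) (U : Y.Opens) (m : Γ(M, U)) :
    ((Scheme.Modules.pullbackPushforwardAdjunction g).homEquiv M N r).app U m = r.app (g ⁻¹ᵁ U) (puSec g m) := by
  rw [Adjunction.homEquiv_unit]
  rfl

theorem homEquiv_symm_app {M : Y.Modules} {N : X.Modules} (ν : M ⟶ (Scheme.Modules.pushforward g).obj N)
    (U : Y.Opens) (m : Γ(M, U)) :
    (((Scheme.Modules.pullbackPushforwardAdjunction g).homEquiv M N).symm ν).app (g ⁻¹ᵁ U) (puSec g m) =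
      ν.app U m := by
  rw [← homEquiv_app, Equiv.apply_symm_apply]

/-- Sections of the pullback along a closed immersion over an affine open. -/
theorem puSec_closed [IsClosedImmersion g] (M : Y.Modules) [Coh.IsQCoh M] {U : Y.Opens} (hU : IsAffineOpen U) :
    Function.Surjective (puSec g (M := M) (U := U)) ∧
      ∀ m : Γ(M, U), puSec g m = 0 ↔ m ∈ RingHom.ker (g.app U).hom • (⊤ : Submodule Γ(Y, U) Γ(M, U)) := by
  letI : Algebra Γ(Y, U) Γ(X, g ⁻¹ᵁ U) := (g.app U).hom.toAlgebra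
  letI : Module Γ(Y, U) Γ(pb g M, g ⁻¹ᵁ U) := Module.compHom _ (g.app U).hom
  haveI : IsScalarTower Γ(Y, U) Γ(X, g ⁻¹ᵁ U) Γ(pb g M, g ⁻¹ᵁ U) := IsScalarTower.of_algebraMap_smul fun _ _ => rfl
  let ψ : Γ(M, U) →ₗ[Γ(Y, U)] Γ(pb g M, g ⁻¹ᵁ U) :=
    { toFun := puSec g
      map_add' := fun a b => map_add (((Scheme.Modules.pullbackPushforwardAdjunction g).unit.app M).app U).hom a b
      map_smul' := fun r m => KFlatLib.puSec_smul g r m }
  have hψ : ∀ m, ψ m = KFlatLib.puSecLE g M le_rfl m := fun m => by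
    rw [KFlatLib.puSecLE_apply]
    exact (congr($((pb g M).presheaf.map_id (op (g ⁻¹ᵁ U))) (puSec g m))).symm
  have halg : ∀ r, algebraMap Γ(Y, U) Γ(X, g ⁻¹ᵁ U) r = (g.appLE U (g ⁻¹ᵁ U) le_rfl).hom r := fun r => by
    rw [← Scheme.Hom.app_eq_appLE]
    rfl
  exact FCohLib.mem_ker_iff_of_isBaseChange ψ
    (KFlatLib.isBaseChange_puSec g M hU (hU.preimage g) le_rfl halg ψ hψ) (Scheme.Hom.app_surjective g U hU)

/-- Pulling back and pushing forward along a closed immersion. -/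
theorem comap_map_closed [IsClosedImmersion g] (I : X.IdealSheafData) : (I.map g).comap g = I := by
  refine Scheme.IdealSheafData.ext_of_iSup_eq_top
    (fun V : Y.affineOpens => (⟨g ⁻¹ᵁ V.1, V.2.preimage g⟩ : X.affineOpens)) ?_ fun V => ?_
  · refine eq_top_iff.2 fun x _ => ?_
    obtain ⟨W, hW, hxW⟩ := QCohLib.exists_affine_nhd (g x)
    exact Opens.mem_iSup.2 ⟨⟨W, hW⟩, hxW⟩
  · rw [← RGFlatLib.ideal_comap_appLE g (I.map g) V.2 (V.2.preimage g) le_rfl,
      Scheme.IdealSheafData.ideal_map_of_isAffineHom, ← Scheme.Hom.app_eq_appLE]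
    exact Ideal.map_comap_of_surjective _ (Scheme.Hom.app_surjective g V.1 V.2) _

end Pull

end HilbObsLib
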