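import Groth.Agent.LCIDefLib.Core
import Groth.Agent.DefLib.ArtGlobal
import Mathlib

/-!
# Ideals with flat quotient along a small extension
-/

set_option autoImplicit false
set_option linter.style.haveILetI false
set_option linter.unusedSectionVars false
set_option maxHeartbeats 1000000
universe u

open IsLocalRing TensorProduct

noncomputable section

namespace HilbObsLib

variable {B A P PA : Type u} [CommRing B] [IsLocalRing B] [IsArtinianRing B] [CommRing A] [IsLocalRing A]
  [IsArtinianRing A] [CommRing P] [Algebra B P] [CommRing PA] [Algebra A PA]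

/-- A small extension with the induced reduction of algebras. -/
structure Small (μ : B →+* A) (π : P →+* PA) (t : B) : Prop where
  μ_surj : Function.Surjective μ
  ker_μ : RingHom.ker μ = Ideal.span {t}
  t_ann : ∀ c ∈ maximalIdeal B, c * t = 0
  t_mem : t ∈ maximalIdeal B
  comm : π.comp (algebraMap B P) = (algebraMap A PA).comp μ
  π_surj : Function.Surjective π
  ker_π : RingHom.ker π = (Ideal.span {t}).map (algebraMap B P)

variable {μ : B →+* A} {π : P →+* PA} {t : B} (h : Small μ π t)
include h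

theorem Small.map_max : (maximalIdeal B).map μ = maximalIdeal A := by
  refine le_antisymm (IsLocalRing.le_maximalIdeal fun htop => ?_) fun a ha => ?_
  · obtain ⟨c, hc, hc1⟩ := (Ideal.mem_map_iff_of_surjective μ h.μ_surj).1 (htop.ge (Submodule.mem_top (x := (1 : A))))
    have h1 : c - 1 ∈ RingHom.ker μ := by rw [RingHom.mem_ker, map_sub, hc1, map_one, sub_self]
    have h2 : c - 1 ∈ maximalIdeal B := by
      rw [h.ker_μ] at h1
      exact Ideal.span_le.2 (Set.singleton_subset_iff.2 h.t_mem) h1
    exact (Ideal.ne_top_iff_one _).1 (maximalIdeal.isMaximal B).ne_top (by simpa using sub_mem hc h2)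
  · obtain ⟨c, rfl⟩ := h.μ_surj a
    exact Ideal.mem_map_of_mem μ ((mem_maximalIdeal c).2 fun hu => (mem_maximalIdeal _).1 ha (hu.map μ))

theorem Small.map_mP : ((maximalIdeal B).map (algebraMap B P)).map π = (maximalIdeal A).map (algebraMap A PA) := by
  rw [Ideal.map_map, h.comm, ← Ideal.map_map, h.map_max]

theorem Small.t_mul (m : P) (hm : m ∈ (maximalIdeal B).map (algebraMap B P)) : algebraMap B P t * m = 0 := by
  refine Submodule.span_induction (fun x hx => ?_) (mul_zero _) (fun a b _ _ ha hb => by rw [mul_add, ha, hb, add_zero])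
    (fun a x _ hx => by rw [smul_eq_mul, mul_left_comm, hx, mul_zero]) hm
  obtain ⟨c, hc, rfl⟩ := hx
  rw [← map_mul, mul_comm t c, h.t_ann c hc, map_zero]

/-- `K ∩ 𝔪 P ⊆ t P + 𝔪 K`. -/
theorem Small.inf_le (KA : Ideal PA) [Module.Flat A (PA ⧸ KA)] :
    (maximalIdeal B).map (algebraMap B P) ⊓ KA.comap π ≤
      (Ideal.span {t}).map (algebraMap B P) ⊔ (maximalIdeal B).map (algebraMap B P) * KA.comap π := by
  rintro x ⟨hxm, hxK⟩
  have h1 : π x ∈ (maximalIdeal A).map (algebraMap A PA) * KA :=
    LCIDefLib.inf_map_le_mul KA _ ⟨hxK, h.map_mP.le (Ideal.mem_map_of_mem π hxm)⟩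
  rw [← h.map_mP, ← Ideal.map_comap_of_surjective π h.π_surj KA, ← Ideal.map_mul] at h1
  obtain ⟨y, hy, hyx⟩ := (Ideal.mem_map_iff_of_surjective π h.π_surj).1 h1
  have h2 : x - y ∈ RingHom.ker π := by rw [RingHom.mem_ker, map_sub, hyx, sub_self]
  rw [h.ker_π] at h2
  rw [← sub_add_cancel x y]
  exact Submodule.add_mem_sup h2 hy

theorem Small.t_mem_comap (KA : Ideal PA) : algebraMap B P t ∈ KA.comap π := by
  have : algebraMap B P t ∈ RingHom.ker π := h.ker_π.ge (Ideal.mem_map_of_mem _ (Ideal.mem_span_singleton_self t))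
  rw [Ideal.mem_comap, RingHom.mem_ker.1 this]
  exact zero_mem _

/-- `t P ∩ 𝔪 K ⊆ t K`. -/
theorem Small.mul_mem_span (KA : Ideal PA) [Module.Flat A PA] [Module.Flat A (PA ⧸ KA)] {x : P}
    (hx : x ∈ (maximalIdeal B).map (algebraMap B P) * KA.comap π) (hπx : π x = 0) :
    x ∈ Ideal.span {algebraMap B P t} * KA.comap π := by
  classical
  let L := Ideal.span {algebraMap B P t} * KA.comap π
  let mA := maximalIdeal A
  -- sections of `μ` and `π`
  let sμ := Function.surjInv h.μ_surj
  let sπ := Function.surjInv h.π_surj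
  have hsμ : ∀ a, μ (sμ a) = a := Function.surjInv_eq h.μ_surj
  have hsπ : ∀ a, π (sπ a) = a := Function.surjInv_eq h.π_surj
  have hcm : ∀ {c : B}, μ c ∈ mA → c ∈ maximalIdeal B := fun {c} hc =>
    (mem_maximalIdeal c).2 fun hu => (mem_maximalIdeal _).1 hc (hu.map μ)
  have hK0 : ∀ {k : P}, k ∈ KA.comap π → ∀ {c : B}, μ c = 0 → algebraMap B P c * k ∈ L := fun {k} hk {c} hc => by
    have h1 : c ∈ Ideal.span {t} := h.ker_μ.le hc
    obtain ⟨b, rfl⟩ := Ideal.mem_span_singleton'.1 h1
    rw [map_mul, mul_assoc]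
    exact Ideal.mul_mem_left _ _ (Ideal.mul_mem_mul (Ideal.mem_span_singleton_self _) hk)
  have hc0 : ∀ {c : B}, c ∈ maximalIdeal B → ∀ {k : P}, π k = 0 → algebraMap B P c * k = 0 := fun {c} hc {k} hk => by
    have h1 : k ∈ (Ideal.span {t}).map (algebraMap B P) := h.ker_π.le hk
    rw [Ideal.map_span, Set.image_singleton] at h1
    obtain ⟨p, rfl⟩ := Ideal.mem_span_singleton'.1 h1
    rw [mul_comm p, ← mul_assoc, ← map_mul, h.t_ann c hc, map_zero, zero_mul]
  let b : mA → (KA.restrictScalars A) → P ⧸ L := fun c k =>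
    Ideal.Quotient.mk L (algebraMap B P (sμ c) * sπ k)
  have hb : ∀ (c : mA) (k : KA.restrictScalars A) (c' : B) (k' : P), μ c' = c → π k' = k →
      b c k = Ideal.Quotient.mk L (algebraMap B P c' * k') := fun c k c' k' hc hk => by
    refine Ideal.Quotient.eq.2 ?_
    have e : algebraMap B P (sμ c) * sπ k - algebraMap B P c' * k' =
        algebraMap B P (sμ c - c') * sπ k + algebraMap B P c' * (sπ k - k') := by
      rw [map_sub]; ring
    rw [e]
    refine add_mem (hK0 ?_ (by rw [map_sub, hsμ, hc, sub_self])) ?_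
    · rw [Ideal.mem_comap, hsπ]; exact k.2
    · rw [hc0 (hcm (hc.symm ▸ c.2)) (by rw [map_sub, hsπ, hk, sub_self])]
      exact zero_mem _
  let f : mA →+ (KA.restrictScalars A) →+ P ⧸ L :=
    AddMonoidHom.mk' (fun c => AddMonoidHom.mk' (b c) fun k k' => by
        rw [hb c (k + k') (sμ c) (sπ k + sπ k') (hsμ _) (by rw [map_add, hsπ, hsπ]; rfl), mul_add, map_add])
      fun c c' => AddMonoidHom.ext fun k => by
        show b (c + c') k = b c k + b c' k
        rw [hb (c + c') k (sμ c + sμ c') (sπ k) (by rw [map_add, hsμ, hsμ]; rfl) (hsπ _), map_add (algebraMap B P),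
          add_mul, map_add]
  let g : mA ⊗[A] (KA.restrictScalars A) →+ P ⧸ L := TensorProduct.liftAddHom f fun a c k => by
    show b (a • c) k = b c (a • k)
    rw [hb (a • c) k (sμ a * sμ c) (sπ k) (by rw [map_mul, hsμ, hsμ]; rfl) (hsπ _),
      hb c (a • k) (sμ c) (algebraMap B P (sμ a) * sπ k) (hsμ _) (by
        rw [map_mul, hsπ, ← RingHom.comp_apply, h.comm, RingHom.comp_apply, hsμ]
        exact (Algebra.smul_def a (k : PA)).symm), map_mul (algebraMap B P)]
    congr 1
    ring
  -- the multiplication map is injective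
  haveI : Module.Free A (PA ⧸ KA) := DefLib.free_of_flat_of_nilpotent LCIDefLib.maximalIdeal_isNilpotent
  obtain ⟨s, hs⟩ := Module.projective_lifting_property (Ideal.Quotient.mkₐ A KA).toLinearMap LinearMap.id
    Ideal.Quotient.mk_surjective
  have hret : ∀ y : PA, y - s (Ideal.Quotient.mk KA y) ∈ KA.restrictScalars A := fun y => by
    rw [Submodule.restrictScalars_mem, ← Ideal.Quotient.eq_zero_iff_mem, map_sub, sub_eq_zero]
    exact (LinearMap.congr_fun hs _).symm
  let ret : PA →ₗ[A] KA.restrictScalars A :=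
    (LinearMap.id - s.comp (Ideal.Quotient.mkₐ A KA).toLinearMap).codRestrict _ hret
  have hrets : ret.comp (KA.restrictScalars A).subtype = LinearMap.id := LinearMap.ext fun k => Subtype.ext <| by
    show (k : PA) - s (Ideal.Quotient.mk KA (k : PA)) = k
    rw [Ideal.Quotient.eq_zero_iff_mem.2 k.2, map_zero, sub_zero]
  let incl : mA ⊗[A] (KA.restrictScalars A) →ₗ[A] mA ⊗[A] PA := (KA.restrictScalars A).subtype.lTensor mA
  have hincl : Function.Injective incl := by
    refine Function.LeftInverse.injective (g := ret.lTensor mA) fun z => ?_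
    show (ret.lTensor mA) ((KA.restrictScalars A).subtype.lTensor mA z) = z
    rw [← LinearMap.comp_apply, ← LinearMap.lTensor_comp, hrets, LinearMap.lTensor_id, LinearMap.id_apply]
  let m : mA ⊗[A] PA →ₗ[A] PA :=
    TensorProduct.lift ((LinearMap.lsmul A PA).comp mA.subtype)
  have hm : Function.Injective m := by
    have hi := Module.Flat.rTensor_preserves_injective_linearMap (M := PA) mA.subtype Subtype.val_injective
    have e : m = (TensorProduct.lid A PA).toLinearMap.comp (mA.subtype.rTensor PA) :=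
      TensorProduct.ext' fun c y => rfl
    rw [e]
    exact (TensorProduct.lid A PA).injective.comp hi
  -- the element
  have key : ∀ y ∈ (maximalIdeal B).map (algebraMap B P) * KA.comap π,
      ∃ z : mA ⊗[A] (KA.restrictScalars A), m (incl z) = π y ∧ g z = Ideal.Quotient.mk L y := by
    intro y hy
    refine Submodule.mul_induction_on hy (fun a ha k hk => ?_) ?_
    · induction ha using Submodule.span_induction generalizing k with
      | mem a ha =>
        obtain ⟨c, hc, rfl⟩ := ha
        let c₁ : mA := ⟨μ c, h.map_max.le (Ideal.mem_map_of_mem μ hc)⟩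
        let k₁ : KA.restrictScalars A := ⟨π k, hk⟩
        refine ⟨c₁ ⊗ₜ k₁, ?_, hb c₁ k₁ c k rfl rfl⟩
        show μ c • π k = π (algebraMap B P c * k)
        rw [map_mul, ← RingHom.comp_apply, h.comm, RingHom.comp_apply, Algebra.smul_def]
      | zero => exact ⟨0, by simp⟩
      | add a a' _ _ iha iha' =>
        obtain ⟨z, h1, h2⟩ := iha k hk
        obtain ⟨z', h1', h2'⟩ := iha' k hk
        exact ⟨z + z', by rw [map_add, map_add, h1, h1', add_mul, map_add], by rw [map_add, h2, h2', add_mul, map_add]⟩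
      | smul p a _ iha =>
        obtain ⟨z, h1, h2⟩ := iha (p * k) (Ideal.mul_mem_left _ p hk)
        exact ⟨z, by rw [h1, smul_eq_mul, mul_comm p a, mul_assoc], by rw [h2, smul_eq_mul, mul_comm p a, mul_assoc]⟩
    · rintro a a' ⟨z, h1, h2⟩ ⟨z', h1', h2'⟩
      exact ⟨z + z', by rw [map_add, map_add, h1, h1', map_add], by rw [map_add, h2, h2', map_add]⟩
  obtain ⟨z, hz1, hz2⟩ := key x hx
  rw [hπx] at hz1
  have hz : z = 0 := hincl ((hm (hz1.trans (map_zero m).symm)).trans (map_zero incl).symm)
  rw [hz, map_zero, eq_comm, Ideal.Quotient.eq_zero_iff_mem] at hz2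
  exact hz2

/-- Killing `t p` in `K / 𝔪 K` forces `p ∈ K + 𝔪 P`. -/
theorem Small.mem_sup_of_mul_mem (KA : Ideal PA) [Module.Flat B P] [Module.Flat A PA] [Module.Flat A (PA ⧸ KA)]
    (ht0 : t ≠ 0) {p : P} (hp : algebraMap B P t * p ∈ (maximalIdeal B).map (algebraMap B P) * KA.comap π) :
    p ∈ KA.comap π ⊔ (maximalIdeal B).map (algebraMap B P) := by
  have h0 : π (algebraMap B P t * p) = 0 := by
    have h1 : algebraMap B P t ∈ RingHom.ker π := h.ker_π.ge (Ideal.mem_map_of_mem _ (Ideal.mem_span_singleton_self t))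
    rw [map_mul, RingHom.mem_ker.1 h1, zero_mul]
  obtain ⟨k, hk, hkp⟩ := Ideal.mem_span_singleton_mul.1 (h.mul_mem_span KA hp h0)
  have h2 : algebraMap B P t * (p - k) ∈ (⊥ : Ideal B).map (algebraMap B P) := by
    rw [mul_sub, hkp, sub_self]
    exact zero_mem _
  have h3 := DefLib.mem_of_algebraMap_mul_mem LCIDefLib.maximalIdeal_isNilpotent (show t ∉ (⊥ : Ideal B) from ht0) h2
  rw [← add_sub_cancel k p]
  exact Submodule.add_mem_sup hk h3

omit h in
/-- Flatness from `𝔪 P ∩ K ⊆ 𝔪 K`. -/
theorem flat_quotient_of_inf_le [Module.Flat B P] (K : Ideal P)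
    (hK : (maximalIdeal B).map (algebraMap B P) ⊓ K ≤ (maximalIdeal B).map (algebraMap B P) * K) :
    Module.Flat B (P ⧸ K) := by
  let f : K.restrictScalars B →ₗ[B] P := (K.restrictScalars B).subtype
  have key : ∀ y ∈ (maximalIdeal B).map (algebraMap B P) * K,
      y ∈ Submodule.map f (maximalIdeal B • (⊤ : Submodule B (K.restrictScalars B))) := by
    intro y hy
    refine Submodule.mul_induction_on hy (fun a ha k hk => ?_) fun a b ha hb => add_mem ha hb
    induction ha using Submodule.span_induction generalizing k with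
    | mem a ha =>
      obtain ⟨c, hc, rfl⟩ := ha
      exact ⟨c • ⟨k, hk⟩, Submodule.smul_mem_smul hc Submodule.mem_top, Algebra.smul_def c k⟩
    | zero => rw [zero_mul]; exact zero_mem _
    | add a a' _ _ iha iha' => rw [add_mul]; exact add_mem (iha k hk) (iha' k hk)
    | smul p a _ iha =>
      rw [smul_eq_mul, mul_comm p a, mul_assoc]
      exact iha (p * k) (Ideal.mul_mem_left _ p hk)
  obtain ⟨-, hflat⟩ := DefLib.splitInjective_of_injective_mod LCIDefLib.maximalIdeal_isNilpotent f fun x hx => by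
    rw [Ideal.smul_top_eq_map] at hx
    obtain ⟨y, hy, hyx⟩ := key _ (hK ⟨hx, x.2⟩)
    exact (Subtype.ext hyx : y = x) ▸ hy
  haveI := hflat
  exact Module.Flat.of_linearEquiv (Submodule.quotEquivOfEq _ (K.restrictScalars B)
    (Submodule.range_subtype _) ≪≫ₗ Submodule.Quotient.restrictScalarsEquiv B K).symm

end HilbObsLib
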