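import Mathlib

/-!
# Affine opens in a base change along a surjection of rings
-/

set_option autoImplicit false
set_option linter.style.haveILetI false
set_option linter.unusedSectionVars false
set_option backward.isDefEq.respectTransparency false
set_option backward.isDefEq.respectTransparency.types false
set_option maxHeartbeats 1000000
universe u

open CategoryTheory CategoryTheory.Limits AlgebraicGeometry TopologicalSpace Opposite

noncomputable section

namespace HilbObsLib

variable {R S : CommRingCat.{u}} {Z X : Scheme.{u}} {i : X ⟶ Z} {g : Z ⟶ Spec R} {f₀ : X ⟶ Spec S} {π : R ⟶ S}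

/-- `R → Γ(Z, U)`. -/
def str (g : Z ⟶ Spec R) (U : Z.Opens) : R ⟶ Γ(Z, U) :=
  (Scheme.ΓSpecIso R).inv ≫ g.appLE ⊤ U le_top

theorem str_res (g : Z ⟶ Spec R) {U V : Z.Opens} (h : V ≤ U) :
    str g U ≫ Z.presheaf.map (homOfLE h).op = str g V := by
  rw [str, Category.assoc, Scheme.Hom.appLE_map]
  rfl

theorem fromSpec_str (g : Z ⟶ Spec R) {U : Z.Opens} (hU : IsAffineOpen U) :
    hU.fromSpec ≫ g = Spec.map (str g U) := by
  have := IsAffineOpen.SpecMap_appLE_fromSpec g (isAffineOpen_top (Spec R)) hU le_top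
  rw [← this, IsAffineOpen.fromSpec_top, Scheme.isoSpec_Spec_inv, ← Spec.map_comp]
  rfl

theorem str_app (hsq : IsPullback i f₀ g (Spec.map π)) (U : Z.Opens) :
    str g U ≫ i.app U = π ≫ str f₀ (i ⁻¹ᵁ U) := by
  have h1 : g.appLE ⊤ U le_top ≫ i.app U = (i ≫ g).appLE ⊤ (i ⁻¹ᵁ U) le_top := by
    rw [i.app_eq_appLE, Scheme.Hom.appLE_comp_appLE]
  have h2 : (i ≫ g).appLE ⊤ (i ⁻¹ᵁ U) le_top = (f₀ ≫ Spec.map π).appLE ⊤ (i ⁻¹ᵁ U) le_top := by
    simp only [hsq.w]
  rw [str, Category.assoc, h1, h2, Scheme.Hom.comp_appLE, str, ← Category.assoc, ← Category.assoc]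
  congr 1
  exact (Scheme.ΓSpecIso_inv_naturality π).symm

theorem ker_app_eq (hsq : IsPullback i f₀ g (Spec.map π)) (hπ : Function.Surjective π.hom) {U : Z.Opens}
    (hU : IsAffineOpen U) : RingHom.ker (i.app U).hom = (RingHom.ker π.hom).map (str g U).hom := by
  refine le_antisymm (fun a ha => ?_) (Ideal.map_le_iff_le_comap.2 fun c hc => ?_)
  swap
  · show (str g U ≫ i.app U) c = 0
    rw [str_app hsq]
    show str f₀ _ (π c) = 0
    rw [show π c = 0 from hc, map_zero]
  let I := (RingHom.ker π.hom).map (str g U).hom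
  let T := CommRingCat.of (Γ(Z, U) ⧸ I)
  let p : Γ(Z, U) ⟶ T := CommRingCat.ofHom (Ideal.Quotient.mk I)
  let F0 : Spec T ⟶ Z := Spec.map p ≫ hU.fromSpec
  let b : S ⟶ T := CommRingCat.ofHom (π.hom.liftOfSurjective hπ ⟨(Ideal.Quotient.mk I).comp (str g U).hom,
    fun c hc => Ideal.Quotient.eq_zero_iff_mem.2 (Ideal.mem_map_of_mem _ hc)⟩)
  have hb : π ≫ b = str g U ≫ p :=
    CommRingCat.hom_ext (RingHom.ext fun c => by
      simp only [b, CommRingCat.hom_comp, RingHom.comp_apply, CommRingCat.hom_ofHom]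
      exact RingHom.liftOfSurjective_comp_apply π.hom hπ _ c)
  have w : F0 ≫ g = Spec.map b ≫ Spec.map π := by
    rw [Category.assoc, fromSpec_str, ← Spec.map_comp, ← Spec.map_comp, hb]
  let h := hsq.lift F0 (Spec.map b) w
  have hh : h ≫ i = F0 := hsq.lift_fst _ _ _
  have e : (⊤ : (Spec T).Opens) ≤ F0 ⁻¹ᵁ U := fun x _ => by
    have hx : hU.fromSpec ((Spec.map p) x) ∈ Set.range hU.fromSpec := ⟨_, rfl⟩
    rw [hU.range_fromSpec] at hx
    exact hx
  have h1 : (h ≫ i).appLE U ⊤ (hh ▸ e) a = 0 := by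
    rw [Scheme.Hom.comp_appLE]
    change h.appLE _ ⊤ _ (i.app U a) = 0
    rw [RingHom.mem_ker] at ha
    rw [show i.app U a = 0 from ha, map_zero]
  have h2 : F0.appLE U ⊤ e a = 0 := by
    have : ∀ (F : Spec T ⟶ Z) (hF : F = F0) (e' : (⊤ : (Spec T).Opens) ≤ F ⁻¹ᵁ U),
        F.appLE U ⊤ e' a = 0 → F0.appLE U ⊤ e a = 0 := by
      rintro _ rfl e' h'; exact h'
    exact this _ hh _ h1
  have h3 : F0.appLE U ⊤ e = p ≫ (Scheme.ΓSpecIso T).inv := by
    have h4 : hU.fromSpec.appLE U ⊤ hU.fromSpec_preimage_self.ge = (Scheme.ΓSpecIso Γ(Z, U)).inv := by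
      rw [Scheme.Hom.appLE, hU.fromSpec_app_self, Category.assoc, ← Functor.map_comp]
      exact (congrArg _ ((congrArg _ (Subsingleton.elim _ (𝟙 _))).trans ((Spec Γ(Z, U)).presheaf.map_id _))).trans
        (Category.comp_id _)
    rw [← Scheme.Hom.appLE_comp_appLE (Spec.map p) hU.fromSpec U ⊤ ⊤ hU.fromSpec_preimage_self.ge le_top, h4,
      Scheme.ΓSpecIso_inv_naturality]
    congr 1
  rw [h3] at h2
  refine Ideal.Quotient.eq_zero_iff_mem.1 ?_
  have h5 := congrArg (Scheme.ΓSpecIso T).hom h2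
  rw [map_zero, ← CommRingCat.comp_apply, Category.assoc, Iso.inv_hom_id, Category.comp_id] at h5
  exact h5

theorem app_surjective_of_sq (hsq : IsPullback i f₀ g (Spec.map π)) (hπ : Function.Surjective π.hom) {U : Z.Opens}
    (hU : IsAffineOpen U) : IsClosedImmersion i ∧ Function.Surjective (i.app U).hom := by
  haveI : IsClosedImmersion (Spec.map π) := IsClosedImmersion.spec_of_surjective _ hπ
  haveI : IsClosedImmersion i := MorphismProperty.of_isPullback (P := @IsClosedImmersion) hsq.flip inferInstance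
  exact ⟨‹_›, Scheme.Hom.app_surjective i U hU⟩

/-- Every scheme over a field is flat. -/
theorem flat_of_field {k : Type u} [Field k] {X : Scheme.{u}} (x : X ⟶ Spec (CommRingCat.of k)) : Flat x := by
  rw [IsZariskiLocalAtSource.iff_of_openCover (P := @Flat) X.affineCover]
  intro j
  obtain ⟨φ, hφ⟩ : ∃ φ, Spec.map φ = X.affineCover.f j ≫ x := ⟨_, Spec.map_preimage _⟩
  rw [← hφ]
  refine (HasRingHomProperty.Spec_iff (P := @Flat)).2 ?_
  letI := φ.hom.toAlgebra
  show Module.Flat k _
  infer_instance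

/-- Flatness of a closed subscheme over an affine base, on affine opens. -/
theorem flat_subscheme_iff (I : Z.IdealSheafData) (g : Z ⟶ Spec R) :
    Flat (I.subschemeι ≫ g) ↔
      ∀ U : Z.affineOpens, ((Ideal.Quotient.mk (I.ideal U)).comp (str g U.1).hom).Flat := by
  have key : ∀ U : Z.affineOpens, I.subschemeCover.f U ≫ I.subschemeι ≫ g =
      Spec.map (str g U.1 ≫ CommRingCat.ofHom (Ideal.Quotient.mk (I.ideal U))) := fun U => by
    rw [← Category.assoc, Scheme.IdealSheafData.subschemeCover_map_subschemeι,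
      Scheme.IdealSheafData.glueDataObjι_ι, Category.assoc, fromSpec_str, ← Spec.map_comp]
  rw [IsZariskiLocalAtSource.iff_of_openCover (P := @Flat) I.subschemeCover.openCover]
  constructor
  · intro h U
    have := h U
    change Flat (I.subschemeCover.f U ≫ I.subschemeι ≫ g) at this
    rw [key] at this
    exact (HasRingHomProperty.Spec_iff (P := @Flat)).1 this
  · intro h U
    show Flat (I.subschemeCover.f U ≫ I.subschemeι ≫ g)
    rw [key]
    exact (HasRingHomProperty.Spec_iff (P := @Flat)).2 (h U)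

theorem flat_str (g : Z ⟶ Spec R) [Flat g] {U : Z.Opens} (hU : IsAffineOpen U) : (str g U).hom.Flat := by
  rw [str, CommRingCat.hom_comp]
  exact (RingHom.Flat.of_bijective (Scheme.ΓSpecIso R).symm.commRingCatIsoToRingEquiv.bijective).comp
    (g.flat_appLE (isAffineOpen_top _) hU le_top)

end HilbObsLib
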