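import Groth.Agent.HBDefLib.Apps
import Groth.Agent.HBDefLib.Dual
import Mathlib

/-!
# Lifting flat deformations of determinantal ideals
-/

set_option autoImplicit false
set_option linter.style.haveILetI false
set_option linter.unusedSectionVars false
set_option maxHeartbeats 1000000
universe u

open IsLocalRing

noncomputable section

namespace HilbObsLib

variable {r : ℕ}

/-- A matrix whose reduction to the special fibre is a resolution. -/
theorem exactMod_of_red {C : Type u} [CommRing C] [IsLocalRing C] {P P₀ : Type u} [CommRing P] [Algebra C P]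
    [CommRing P₀] (ρ : P →+* P₀) (hρ : Function.Surjective ρ)
    (hker : RingHom.ker ρ = (maximalIdeal C).map (algebraMap C P)) (φ : Matrix (Fin (r + 1)) (Fin r) P)
    (φ₀ : Matrix (Fin (r + 1)) (Fin r) P₀) (hφ : φ.map ρ = φ₀) (hinj : Function.Injective φ₀.mulVecLin)
    (hex : LinearMap.range φ₀.mulVecLin = LinearMap.ker (Fintype.linearCombination P₀ (HBLib.minor φ₀))) :
    HBDefLib.ExactMod C φ := by
  have hmem : ∀ a : P, a ∈ (maximalIdeal C).map (algebraMap C P) ↔ ρ a = 0 := fun a => by
    rw [← hker, RingHom.mem_ker]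
  refine ⟨fun v hv j => (hmem _).2 ?_, fun z hz => ?_⟩
  · have h : φ₀.mulVecLin (ρ ∘ v) = φ₀.mulVecLin 0 := by
      rw [map_zero]
      funext i
      rw [Matrix.mulVecLin_apply, ← hφ, ← RingHom.map_mulVec]
      exact (hmem _).1 (hv i)
    exact congrFun (hinj h) j
  · have h : ρ ∘ z ∈ LinearMap.range φ₀.mulVecLin := by
      rw [hex, LinearMap.mem_ker, ← hφ, HBDefLib.minor_map]
      have h1 := (hmem _).1 hz
      simp only [Fintype.linearCombination_apply, Function.comp_apply, smul_eq_mul, map_sum, map_mul] at h1 ⊢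
      exact h1
    obtain ⟨v₀, hv₀⟩ := h
    choose v hv using fun j => hρ (v₀ j)
    refine ⟨v, fun i => (hmem _).2 ?_⟩
    rw [map_sub, RingHom.map_mulVec, show ρ ∘ v = v₀ from funext hv, hφ]
    exact sub_eq_zero.2 (congrFun hv₀ i).symm

/-- A flat deformation of a determinantal ideal lifts along a surjection of artinian rings. -/
theorem exists_flat_lift_det {B A : Type u} [CommRing B] [IsLocalRing B] [IsArtinianRing B] [CommRing A]
    [IsLocalRing A] [IsArtinianRing A] {P PA P₀ : Type u} [CommRing P] [Algebra B P] [Module.Flat B P]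
    [CommRing PA] [Algebra A PA] [Module.Flat A PA] [CommRing P₀] [IsRegularRing P₀]
    (π : P →+* PA) (hπ : Function.Surjective π) (q : PA →+* P₀) (hq : Function.Surjective q)
    (hqker : RingHom.ker q = (maximalIdeal A).map (algebraMap A PA))
    (hker : RingHom.ker (q.comp π) = (maximalIdeal B).map (algebraMap B P))
    (IA : Ideal PA) [Module.Flat A (PA ⧸ IA)] (φ₀ : Matrix (Fin (r + 1)) (Fin r) P₀)
    (hI : Ideal.span (Set.range (HBLib.minor φ₀)) = IA.map q) (hinj : Function.Injective φ₀.mulVecLin)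
    (hex : LinearMap.range φ₀.mulVecLin = LinearMap.ker (Fintype.linearCombination P₀ (HBLib.minor φ₀)))
    (hcodim : ∀ p : Ideal P₀, p.IsPrime → IA.map q ≤ p → (2 : ℕ∞) ≤ p.height) :
    ∃ K : Ideal P, Module.Flat B (P ⧸ K) ∧ K.map π = IA := by
  choose φ hφ using fun i j => hq (φ₀ i j)
  have hφm : (Matrix.of φ).map q = φ₀ := Matrix.ext fun i j => hφ i j
  let e : (PA ⧸ (maximalIdeal A).map (algebraMap A PA)) ≃+* P₀ :=
    (Ideal.quotEquivOfEq hqker.symm).trans (RingHom.quotientKerEquivOfSurjective hq)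
  haveI : IsRegularRing (PA ⧸ (maximalIdeal A).map (algebraMap A PA)) := IsRegularRing.of_ringEquiv e.symm
  have hec : ∀ a, e (Ideal.Quotient.mk _ a) = q a := fun _ => rfl
  obtain ⟨ψ, hψ, hψI, -, -⟩ := HBDefLib.exists_lift HBDefLib.isNilpotent_maximalIdeal (maximalIdeal A) le_rfl IA
    (Matrix.of φ) (HBDefLib.sup_eq_of_map_eq _ _ _ (by
      have hinje : ∀ a b : Ideal (PA ⧸ (maximalIdeal A).map (algebraMap A PA)),
          a.map e.toRingHom = b.map e.toRingHom → a = b := fun a b h => by
        rw [← Ideal.comap_map_of_bijective e.toRingHom e.bijective (I := a), h,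
          Ideal.comap_map_of_bijective e.toRingHom e.bijective]
      refine hinje _ _ ?_
      rw [Ideal.map_map, Ideal.map_map, show e.toRingHom.comp (Ideal.Quotient.mk _) = q from RingHom.ext hec,
        HBDefLib.map_span_minor, hφm, hI]))
    (exactMod_of_red q hq hqker _ φ₀ hφm hinj hex) (fun p hp hle => by
      haveI := hp
      haveI : (p.comap e.symm.toRingHom).IsPrime := Ideal.IsPrime.comap _
      rw [← e.symm.height_comap p]
      refine hcodim _ inferInstance ?_
      rw [← hI, Ideal.span_le, Set.range_subset_iff]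
      intro i
      show e.symm (HBLib.minor φ₀ i) ∈ p
      have h1 : e.symm (HBLib.minor φ₀ i) = HBLib.minor ((Matrix.of φ).map (Ideal.Quotient.mk _)) i := by
        rw [RingEquiv.symm_apply_eq, ← hφm, HBDefLib.minor_map, HBDefLib.minor_map]
        rfl
      rw [h1]
      exact hle (Ideal.subset_span ⟨i, rfl⟩))
  choose ψ' hψ' using fun i j => hπ (ψ i j)
  have hψm : (Matrix.of ψ').map π = ψ := Matrix.ext fun i j => hψ' i j
  have hψ₀ : (Matrix.of ψ').map (q.comp π) = φ₀ := Matrix.ext fun i j => by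
    show q (π (ψ' i j)) = φ₀ i j
    rw [hψ', ← hφ]
    refine sub_eq_zero.1 ((map_sub q _ _).symm.trans ?_)
    exact RingHom.mem_ker.1 (hqker.ge (hψ i j))
  refine ⟨Ideal.span (Set.range (HBLib.minor (Matrix.of ψ'))), ?_, ?_⟩
  · exact ((exactMod_of_red (q.comp π) (hq.comp hπ) hker _ φ₀ hψ₀ hinj hex).exact_and_flat
      HBDefLib.isNilpotent_maximalIdeal).2.2
  · rw [HBDefLib.map_span_minor, hψm, hψI]

end HilbObsLib
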