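import Groth.Agent.HilbObsLib.Main
import Groth.Agent.HilbObsLib.DetLift
import Groth.Agent.S11460
import Groth.Agent.S1535

/-!
# Local lifting of deformations of codimension two Cohen–Macaulay subschemes
-/

set_option autoImplicit false
set_option linter.style.haveILetI false
set_option linter.unusedSectionVars false
set_option backward.isDefEq.respectTransparency false
set_option backward.isDefEq.respectTransparency.types false
set_option maxHeartbeats 1000000
universe u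

open CategoryTheory CategoryTheory.Limits AlgebraicGeometry TopologicalSpace Opposite IsLocalRing

noncomputable section

namespace HilbObsLib

variable {k : Type u} [Field k] {X : Scheme.{u}} (x : X ⟶ ArtFun.Art.specPt k) (I₀ : X.IdealSheafData)

/-- Deformations lift over an affine open with a Hilbert–Burch resolution in codimension two. -/
theorem locLifts_of_det (V : X.affineOpens) [IsRegularRing Γ(X, V.1)] {r : ℕ}
    (φ₀ : Matrix (Fin (r + 1)) (Fin r) Γ(X, V.1))
    (hgen : Ideal.span (Set.range (HBLib.minor φ₀)) = I₀.ideal V) (hinj : Function.Injective φ₀.mulVecLin)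
    (hex : LinearMap.range φ₀.mulVecLin = LinearMap.ker (Fintype.linearCombination Γ(X, V.1) (HBLib.minor φ₀)))
    (hcodim : ∀ p : Ideal Γ(X, V.1), p.IsPrime → I₀.ideal V ≤ p → (2 : ℕ∞) ≤ p.height) :
    LocLifts x I₀ V := by
  intro B A μ hμ t hker ht U hUV IA hU'
  have hVA : (ArtFun.Art.XAincl x A) ⁻¹ᵁ ((ArtFun.Art.XAmap x μ) ⁻¹ᵁ U.1) = V.1 := by
    rw [← Scheme.Hom.comp_preimage, ArtFun.Art.XAincl_XAmap]
    exact hUV
  haveI := isClosedImmersion_incl x A
  haveI := isClosedImmersion_map x μ hμ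
  obtain rfl : V = ⟨(ArtFun.Art.XAincl x A) ⁻¹ᵁ ((ArtFun.Art.XAmap x μ) ⁻¹ᵁ U.1), hU'.preimage _⟩ :=
    Subtype.ext hVA.symm
  letI := (sB x U.1).toAlgebra
  letI := (str (R := CommRingCat.of A) (ArtFun.Art.XApr x A) ((ArtFun.Art.XAmap x μ) ⁻¹ᵁ U.1)).hom.toAlgebra
  have hsm := small_affine x μ hμ hker ht U.2
  haveI := flat_quot_affine x IA.1 IA.2.1 ⟨(ArtFun.Art.XAmap x μ) ⁻¹ᵁ U.1, hU'⟩
  haveI := flat_affine x (B := A) (U := (ArtFun.Art.XAmap x μ) ⁻¹ᵁ U.1) hU'
  haveI := flat_affine x (B := B) U.2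
  have hIq : (IA.1.ideal ⟨(ArtFun.Art.XAmap x μ) ⁻¹ᵁ U.1, hU'⟩).map
      ((ArtFun.Art.XAincl x A).app ((ArtFun.Art.XAmap x μ) ⁻¹ᵁ U.1)).hom =
      I₀.ideal ⟨_, hU'.preimage (ArtFun.Art.XAincl x A)⟩ := by
    conv_rhs => rw [← IA.2.2]
    rw [← RGFlatLib.ideal_comap_appLE (ArtFun.Art.XAincl x A) IA.1 hU' (hU'.preimage _) le_rfl,
      ← Scheme.Hom.app_eq_appLE]
  refine exists_flat_lift_det ((ArtFun.Art.XAmap x μ).app U.1).hom hsm.π_surj
    ((ArtFun.Art.XAincl x A).app ((ArtFun.Art.XAmap x μ) ⁻¹ᵁ U.1)).hom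
    (Scheme.Hom.app_surjective _ _ hU') (ker_incl_app x hU') ?_ _ φ₀ (hgen.trans hIq.symm) hinj hex
    (fun p hp hle => hcodim p hp (hIq.ge.trans hle))
  rw [← RingHom.comap_ker, ker_incl_app x hU']
  have h1 : (maximalIdeal A).map (str (R := CommRingCat.of A) (ArtFun.Art.XApr x A)
      ((ArtFun.Art.XAmap x μ) ⁻¹ᵁ U.1)).hom =
      ((maximalIdeal B).map (sB x U.1)).map ((ArtFun.Art.XAmap x μ).app U.1).hom := by
    have hm : (maximalIdeal B).map μ.toAlgHom.toRingHom = maximalIdeal A := by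
      refine le_antisymm (Ideal.map_le_iff_le_comap.2 fun c hc => ?_) fun a ha => ?_
      · show μ.toAlgHom c ∈ maximalIdeal A
        rw [ArtFun.Art.mem_maximalIdeal_iff] at hc ⊢
        rw [ArtFun.Art.res_app μ c]
        exact hc
      · obtain ⟨c, rfl⟩ := hμ a
        refine Ideal.mem_map_of_mem μ.toAlgHom.toRingHom ?_
        rw [ArtFun.Art.mem_maximalIdeal_iff] at ha ⊢
        rwa [ArtFun.Art.res_app μ c] at ha
    rw [← hm, Ideal.map_map, Ideal.map_map]
    exact congrArg (fun f => Ideal.map f (maximalIdeal B)) hsm.comm.symm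
  rw [h1, Ideal.comap_map_of_surjective' _ hsm.π_surj, hsm.ker_π]
  refine sup_eq_left.2 (Ideal.map_mono (Ideal.span_le.2 (Set.singleton_subset_iff.2 hsm.t_mem)))

/-- Deformations of a Cohen–Macaulay subscheme of codimension two in a smooth scheme lift locally. -/
theorem exists_locLifts_of_cm [Smooth x]
    (hCM : ∀ y : I₀.subscheme, LocCoh.IsCohenMacaulayLocalRing (I₀.subscheme.presheaf.stalk y))
    (hcodim : ∀ y : I₀.subscheme, ringKrullDim (I₀.subscheme.presheaf.stalk y) + 2 =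
      ringKrullDim (X.presheaf.stalk (I₀.subschemeι.base y)))
    (y : I₀.subscheme) : ∃ V : X.affineOpens, I₀.subschemeι y ∈ V.1 ∧ LocLifts x I₀ V := by
  letI : X.Over (Spec (CommRingCat.of k)) := ⟨x⟩
  haveI : Smooth (X ↘ Spec (CommRingCat.of k)) := ‹Smooth x›
  haveI : IsLocallyNoetherian X := LocallyOfFiniteType.isLocallyNoetherian x
  obtain ⟨V, hy, r, φ₀, hgen, hinj, hex⟩ :=
    Groth.Agent.S11460.result k X I₀.subscheme x I₀.subschemeι hCM hcodim y
  rw [Scheme.IdealSheafData.ker_subschemeι] at hgen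
  haveI : IsNoetherianRing Γ(X, V.1) := IsLocallyNoetherian.component_noetherian V
  have hpt : ∀ (p : PrimeSpectrum Γ(X, V.1)), V.2.fromSpec p ∈ V.1 := fun p =>
    V.2.range_fromSpec.le (Set.mem_range_self p)
  haveI : IsRegularRing Γ(X, V.1) := by
    refine isRegularRing_iff.2 fun q hq => ?_
    let z := V.2.fromSpec ⟨q, hq⟩
    letI := X.presheaf.algebra_section_stalk (⟨z, hpt ⟨q, hq⟩⟩ : V.1)
    haveI : IsLocalization.AtPrime (X.presheaf.stalk z) q :=
      V.2.isLocalization_stalk' ⟨q, hq⟩ (hpt ⟨q, hq⟩)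
    haveI : IsRegularLocalRing (X.presheaf.stalk z) := Groth.Agent.S1535.result k X z
    exact IsRegularLocalRing.of_ringEquiv
      (IsLocalization.algEquiv q.primeCompl (X.presheaf.stalk z) (Localization.AtPrime q)).toRingEquiv
  refine ⟨V, hy, locLifts_of_det x I₀ V φ₀ hgen hinj hex fun p hp hle => ?_⟩
  let z := V.2.fromSpec ⟨p, hp⟩
  letI := X.presheaf.algebra_section_stalk (⟨z, hpt ⟨p, hp⟩⟩ : V.1)
  haveI : IsLocalization.AtPrime (X.presheaf.stalk z) p :=
    V.2.isLocalization_stalk' ⟨p, hp⟩ (hpt ⟨p, hp⟩)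
  have hz : z ∈ (I₀.support : Set X) := by
    have h1 : z ∈ X.zeroLocus (U := V.1) (I₀.ideal V) ∩ (V.1 : Set X) := by
      rw [← V.2.fromSpec_image_zeroLocus]
      exact ⟨⟨p, hp⟩, hle, rfl⟩
    exact ((I₀.coe_support_inter V).ge h1).1
  rw [← Scheme.IdealSheafData.range_subschemeι] at hz
  obtain ⟨w, hw⟩ := hz
  have hd := hcodim w
  rw [show I₀.subschemeι.base w = z from hw, IsLocalization.AtPrime.ringKrullDim_eq_height p (X.presheaf.stalk z)] at hd
  have h2 : ((2 : ℕ∞) : WithBot ℕ∞) ≤ (p.height : WithBot ℕ∞) := by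
    rw [← hd]
    exact le_add_of_nonneg_left ringKrullDim_nonneg_of_nontrivial
  exact WithBot.coe_le_coe.1 h2

end HilbObsLib
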