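import Groth.Agent.HilbObsLib.Main
import Groth.Agent.DefLib.ArtGlobal

/-!
# Induction on small extensions
-/

set_option autoImplicit false
set_option linter.style.haveILetI false
set_option backward.isDefEq.respectTransparency false
set_option backward.isDefEq.respectTransparency.types false
universe u

open CategoryTheory CategoryTheory.Limits AlgebraicGeometry IsLocalRing

noncomputable section

namespace HilbObsLib

variable {k : Type u} [Field k] {X : Scheme.{u}} (x : X ⟶ ArtFun.Art.specPt k) (I₀ : X.IdealSheafData)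

theorem surjective_map_of_split (hSplit : SplitsLocKR x I₀)
    (B : ArtFun.Art k k) (J : Ideal B) : ∀ {A : ArtFun.Art k k} (μ : B ⟶ A), Function.Surjective μ.toAlgHom →
      RingHom.ker μ.toAlgHom.toRingHom = J → Function.Surjective ((ArtFun.localHilb X x I₀).map μ) := by
  induction J using WellFoundedLT.induction with
  | ind J IH =>
  intro A μ hμ hJ IA
  have hJm : J ≤ maximalIdeal B := fun c hc => mem_max_of_ker μ (RingHom.mem_ker.1 (hJ.ge hc))
  by_cases hb : J = ⊥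
  · have hinj : Function.Injective μ.toAlgHom := (injective_iff_map_eq_zero _).2 fun c hc =>
      (Ideal.mem_bot).1 (hb ▸ hJ.le (RingHom.mem_ker.2 hc))
    let e := AlgEquiv.ofBijective μ.toAlgHom ⟨hinj, hμ⟩
    let ν : A ⟶ B := ArtFun.Art.homMk e.symm.toAlgHom (AlgHom.ext fun a => by
      show B.res (e.symm a) = A.res a
      rw [← ArtFun.Art.res_app μ (e.symm a)]
      exact congrArg A.res (e.apply_symm_apply a))
    have hν : ν ≫ μ = 𝟙 A := ArtFun.Art.hom_ext (AlgHom.ext fun a => e.apply_symm_apply a)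
    refine ⟨(ArtFun.localHilb X x I₀).map ν IA, ?_⟩
    show (((ArtFun.localHilb X x I₀).map ν) ≫ ((ArtFun.localHilb X x I₀).map μ)) IA = IA
    rw [← Functor.map_comp, hν, CategoryTheory.Functor.map_id]
    rfl
  obtain ⟨J', ε, hlt, hJeq, hε, hεm⟩ := DefLib.exists_step LCIDefLib.maximalIdeal_isNilpotent hb
  have hJ'm : J' ≤ maximalIdeal B := hlt.le.trans hJm
  haveI : Nontrivial (B ⧸ J') := Ideal.Quotient.nontrivial_iff.2
    fun h => (maximalIdeal.isMaximal B).ne_top (top_le_iff.1 (h ▸ hJ'm))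
  haveI : IsLocalRing (B ⧸ J') := IsLocalRing.of_surjective' _ Ideal.Quotient.mk_surjective
  let resq : (B ⧸ J') →ₐ[k] k := Ideal.Quotient.liftₐ J' B.res fun c hc =>
    (ArtFun.Art.mem_maximalIdeal_iff B c).1 (hJ'm hc)
  let B' : ArtFun.Art k k := ArtFun.Art.of (B ⧸ J') resq fun z => by
    obtain ⟨c, hc⟩ := B.res_surjective z
    exact ⟨Ideal.Quotient.mk J' c, hc⟩
  let μ₁ : B ⟶ B' := ArtFun.Art.homMk (Ideal.Quotient.mkₐ k J') (AlgHom.ext fun c => rfl)
  have hJ'μ : ∀ c ∈ J', μ.toAlgHom c = 0 := fun c hc => RingHom.mem_ker.1 (hJ.ge (hlt.le hc))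
  let μ₂ : B' ⟶ A := ArtFun.Art.homMk (Ideal.Quotient.liftₐ J' μ.toAlgHom hJ'μ) (AlgHom.ext fun z => by
    obtain ⟨c, rfl⟩ := Ideal.Quotient.mk_surjective z
    exact ArtFun.Art.res_app μ c)
  have hμ₂ : Function.Surjective μ₂.toAlgHom := fun a => by
    obtain ⟨c, rfl⟩ := hμ a
    exact ⟨Ideal.Quotient.mk J' c, rfl⟩
  have hker : RingHom.ker μ₂.toAlgHom.toRingHom = Ideal.span {(Ideal.Quotient.mk J' ε : B ⧸ J')} := by
    refine le_antisymm (fun z hz => ?_) (Ideal.span_le.2 (Set.singleton_subset_iff.2 ?_))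
    · obtain ⟨c, rfl⟩ := Ideal.Quotient.mk_surjective z
      have hc : c ∈ J := hJ.le (RingHom.mem_ker.2 (show μ.toAlgHom c = 0 from RingHom.mem_ker.1 hz))
      rw [hJeq] at hc
      obtain ⟨a, ha, b, hb', rfl⟩ := Submodule.mem_sup.1 hc
      obtain ⟨d, rfl⟩ := Ideal.mem_span_singleton'.1 hb'
      rw [map_add, Ideal.Quotient.eq_zero_iff_mem.2 ha, zero_add, map_mul]
      exact Ideal.mul_mem_left _ _ (Ideal.mem_span_singleton_self _)
    · refine RingHom.mem_ker.2 (?_ : μ.toAlgHom ε = 0)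
      exact RingHom.mem_ker.1 (hJ.ge (hJeq.ge (Ideal.mem_sup_right (Ideal.mem_span_singleton_self ε))))
  let t' : B' := Ideal.Quotient.mk J' ε
  have ht : ∀ c ∈ maximalIdeal B', c * t' = 0 := fun z hz => by
    obtain ⟨c, rfl⟩ := Ideal.Quotient.mk_surjective (I := J') z
    have hc : c ∈ maximalIdeal B := (ArtFun.Art.mem_maximalIdeal_iff B c).2
      ((ArtFun.Art.mem_maximalIdeal_iff B' _).1 hz)
    exact (map_mul (Ideal.Quotient.mk J') c ε).symm.trans (Ideal.Quotient.eq_zero_iff_mem.2 (hεm c hc))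
  obtain ⟨IB', hIB'⟩ := exists_lift_small_of_split x I₀ μ₂ hSplit hμ₂ (t := t') hker ht
    (fun h => hε (Ideal.Quotient.eq_zero_iff_mem.1 h)) IA
  obtain ⟨IB, hIB⟩ := IH J' hlt μ₁ Ideal.Quotient.mk_surjective Ideal.mk_ker IB'
  refine ⟨IB, ?_⟩
  have hfac : μ₁ ≫ μ₂ = μ := ArtFun.Art.hom_ext (AlgHom.ext fun c => rfl)
  rw [← hfac, Functor.map_comp, ← hIB', ← hIB]
  rfl

theorem surjective_map_of_ker [HasExt.{u} X.Modules]
    (hExt : Subsingleton (Abelian.Ext.{u} (ClSub.idealMod I₀) (ClSub.quotMod I₀) 1))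
    (B : ArtFun.Art k k) (J : Ideal B) {A : ArtFun.Art k k} (μ : B ⟶ A) (hμ : Function.Surjective μ.toAlgHom)
    (hJ : RingHom.ker μ.toAlgHom.toRingHom = J) : Function.Surjective ((ArtFun.localHilb X x I₀).map μ) :=
  surjective_map_of_split x I₀ (splitsLocKR_of_ext x I₀ hExt) B J μ hμ hJ

theorem isSmoothFunctor [HasExt.{u} X.Modules] (hExt : Subsingleton (Abelian.Ext.{u} (ClSub.idealMod I₀) (ClSub.quotMod I₀) 1)) :
    ArtFun.IsSmoothFunctor (ArtFun.localHilb X x I₀) :=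
  fun B _ μ hμ => surjective_map_of_split x I₀ (splitsLocKR_of_ext x I₀ hExt) B _ μ hμ rfl

end HilbObsLib
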