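import Groth.Agent.HilbObsLib.Regular
import Groth.Agent.HomCohLib.FullyFaithful
import Groth.Agent.HomCohLib.Coh
import Groth.Agent.HomCohLib.Adj
import Groth.Agent.PnDualLib.HomExt

/-!
# Locally split extensions by the structure sheaf
-/

set_option autoImplicit false
set_option linter.style.haveILetI false
set_option linter.unusedSectionVars false
set_option backward.isDefEq.respectTransparency false
set_option backward.isDefEq.respectTransparency.types false
set_option maxHeartbeats 1000000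
set_option synthInstance.maxHeartbeats 200000
universe u

open CategoryTheory CategoryTheory.Limits AlgebraicGeometry CategoryTheory.Abelian TopologicalSpace Opposite
open CohCmpLib (homMod happ)
open ProjFormLib (res ger_res section_ext)

noncomputable section

namespace HilbObsLib

/-- A locally split extension of `C` by `O` splits when `H¹(Hom(C, O)) = 0`. -/
theorem exists_retraction_of_local {Y : Scheme.{u}} {S : ShortComplex Y.Modules} (hS : S.ShortExact)
    [Coh.IsQCoh S.X₁] [Coh.IsQCoh S.X₃] [DCoh.HasSheafHom S.X₃]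
    (h1 : Subsingleton (Coh.HH Y ((DCoh.sheafHom S.X₃).obj S.X₁) 1))
    (hloc : ∀ y : Y, ∃ V : Y.Opens, IsAffineOpen V ∧ y ∈ V ∧
      ∃ ρ : Γ(S.X₂, V) →ₗ[Γ(Y, V)] Γ(S.X₁, V), ∀ s, ρ (S.f.app V s) = s) :
    ∃ r : S.X₂ ⟶ S.X₁, S.f ≫ r = 𝟙 _ := by
  haveI : EnoughInjectives Y.Modules := IsGrothendieckAbelian.enoughInjectives.{u}
  let C := S.X₃
  let φ : homMod C S.X₂ ⟶ homMod C C := HomCohLib.mapR C S.g
  let one : Γ(homMod C C, (⊤ : Y.Opens)) := HomCohLib.ofHom (𝟙 C)
  have hlift : ∀ y : Y, ∃ V : Y.Opens, y ∈ V ∧ ∃ h : Γ(homMod C S.X₂, V),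
      φ.app V h = res (homMod C C) le_top one := by
    intro y
    obtain ⟨V, hV, hy, ρ, hρ⟩ := hloc y
    have hgs : Function.Surjective (S.g.app V) := QCohLib.app_surjective_of_affine hS hV
    choose sec hsec using hgs
    let gl : Γ(S.X₂, V) →ₗ[Γ(Y, V)] Γ(C, V) :=
      { toFun := fun s => S.g.app V s
        map_add' := fun a b => map_add (S.g.app V).hom a b
        map_smul' := fun r a => QCohLib.app_smul S.g V r a }
    let fl : Γ(S.X₁, V) →ₗ[Γ(Y, V)] Γ(S.X₂, V) :=
      { toFun := fun s => S.f.app V s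
        map_add' := fun a b => map_add (S.f.app V).hom a b
        map_smul' := fun r a => QCohLib.app_smul S.f V r a }
    let P : Γ(S.X₂, V) →ₗ[Γ(Y, V)] Γ(S.X₂, V) := LinearMap.id - fl.comp ρ
    have hP : ∀ s s', gl s = gl s' → P s = P s' := fun s s' h => by
      obtain ⟨a, ha⟩ := QCohLib.exists_of_app_eq_zero hS.exact hS.mono_f (s - s')
        ((map_sub (S.g.app V).hom s s').trans (sub_eq_zero.2 h))
      refine sub_eq_zero.1 ?_
      rw [← map_sub, ← ha]
      show S.f.app V a - S.f.app V (ρ (S.f.app V a)) = 0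
      rw [hρ, sub_self]
    have hgP : ∀ s, gl (P s) = gl s := fun s => by
      show S.g.app V (s - S.f.app V (ρ s)) = _
      refine (map_sub (S.g.app V).hom _ _).trans ?_
      rw [show S.g.app V (S.f.app V (ρ s)) = 0 from congrArg (fun θ => Scheme.Modules.Hom.app θ V (ρ s)) S.zero,
        sub_zero]
      rfl
    let σ : Γ(C, V) →ₗ[Γ(Y, V)] Γ(S.X₂, V) :=
      { toFun := fun c => P (sec c)
        map_add' := fun a b => by
          rw [← map_add]
          exact hP _ _ ((hsec _).trans ((map_add gl _ _).trans (congrArg₂ (· + ·) (hsec a) (hsec b))).symm)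
        map_smul' := fun r a => by
          rw [RingHom.id_apply, ← map_smul]
          exact hP _ _ ((hsec _).trans ((map_smul gl r _).trans (congrArg (r • ·) (hsec a))).symm) }
    obtain ⟨h, hh⟩ := HomCohLib.exists_hom (M := C) (N := S.X₂) hV σ
    refine ⟨V, hy, h, HomCohLib.hom_ext hV le_rfl _ _ fun m => ?_⟩
    have hm : res C (le_refl V) m = m := congr($(C.presheaf.map_id (op V)) m)
    rw [hm, HomCohLib.happ_mapR, hh]
    refine ((hgP _).trans (hsec m)).trans ?_
    show m = happ (res (homMod C C) le_top one) m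
    rw [← HomCohLib.toHom_app, HomCohLib.toHom_ofHom]
    rfl
  -- the left exact sequence of homomorphism sheaves
  let F := PnDualLib.homFun C
  haveI : F.IsRightAdjoint := (HomCohLib.homAdj C).isRightAdjoint
  haveI : F.PreservesZeroMorphisms := Functor.preservesZeroMorphisms_of_preserves_terminal_object
  haveI := hS.mono_f
  haveI := hS.epi_g
  have hex : (S.map F).Exact :=
    ShortComplex.exact_of_f_is_kernel _ (isLimitForkMapOfIsLimit' F _ hS.fIsKernel)
  have hexH : (PnDualLib.homSeq C S).Exact := by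
    refine (ShortComplex.exact_iff_of_iso
      (ShortComplex.isoMk (S₁ := S.map F) (S₂ := PnDualLib.homSeq C S) (Iso.refl _) (Iso.refl _) (Iso.refl _) ?_ ?_)).1 hex
    · show 𝟙 _ ≫ HomCohLib.mapR C S.f = F.map S.f ≫ 𝟙 _
      rw [Category.id_comp, Category.comp_id, PnDualLib.homFun_map]
    · show 𝟙 _ ≫ HomCohLib.mapR C S.g = F.map S.g ≫ 𝟙 _
      rw [Category.id_comp, Category.comp_id, PnDualLib.homFun_map]
  haveI : Mono (HomCohLib.mapR C S.f) := by
    rw [← PnDualLib.homFun_map]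
    infer_instance
  have hwz : HomCohLib.mapR C S.f ≫ Abelian.factorThruImage φ = 0 := by
    rw [← cancel_mono (Abelian.image.ι φ), Category.assoc, Abelian.image.fac, zero_comp]
    exact PnDualLib.mapR_comp_eq_zero C S
  let S' : ShortComplex Y.Modules := ShortComplex.mk (HomCohLib.mapR C S.f) (Abelian.factorThruImage φ) hwz
  have hS' : S'.ShortExact := by
    refine { exact := ?_, mono_f := ‹Mono (HomCohLib.mapR C S.f)›, epi_g := inferInstanceAs (Epi (Abelian.factorThruImage φ)) }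
    let ψ : S' ⟶ PnDualLib.homSeq C S :=
      { τ₁ := 𝟙 _, τ₂ := 𝟙 _, τ₃ := Abelian.image.ι φ
        comm₁₂ := by show 𝟙 _ ≫ HomCohLib.mapR C S.f = HomCohLib.mapR C S.f ≫ 𝟙 _; simp
        comm₂₃ := by
          show 𝟙 _ ≫ φ = Abelian.factorThruImage φ ≫ Abelian.image.ι φ
          rw [Category.id_comp, Abelian.image.fac] }
    haveI : Epi ψ.τ₁ := inferInstanceAs (Epi (𝟙 _))
    haveI : IsIso ψ.τ₂ := inferInstanceAs (IsIso (𝟙 _))
    haveI : Mono ψ.τ₃ := inferInstanceAs (Mono (Abelian.image.ι φ))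
    exact (ShortComplex.exact_iff_of_epi_of_isIso_of_mono ψ).2 hexH
  let v : Coh.structureModule Y ⟶ homMod C C := QCohLib.unitHom (homMod C C) one
  have hv : v ≫ cokernel.π φ = 0 := by
    have hs : (cokernel.π φ).app ⊤ one = 0 := by
      refine section_ext _ _ fun y hy => ?_
      obtain ⟨V, hyV, h, hh⟩ := hlift y
      rw [CohCmpLib.ger_zero, ← ger_res (cokernel φ) (le_top : V ≤ ⊤) y hyV]
      have h2 : res (cokernel φ) (le_top : V ≤ ⊤) ((cokernel.π φ).app ⊤ one) = 0 := by
        refine (QCohLib.app_map (cokernel.π φ) (homOfLE (le_top : V ≤ ⊤)) one).symm.trans ?_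
        show (cokernel.π φ).app V (res (homMod C C) le_top one) = 0
        rw [← hh]
        exact congrArg (fun θ => Scheme.Modules.Hom.app θ V h) (cokernel.condition φ)
      rw [h2, CohCmpLib.ger_zero]
    refine Scheme.Modules.hom_ext _ _ fun U => ?_
    ext r
    show (cokernel.π φ).app U (v.app U r) = 0
    rw [QCohLib.unitHom_app, QCohLib.app_smul, QCohLib.app_map, hs, map_zero, smul_zero]
  haveI hHH : Subsingleton (Coh.HH Y ((DCoh.sheafHom C).obj S.X₁) 1) := h1
  haveI : Subsingleton (Ext.{u} (Coh.structureModule Y) ((DCoh.sheafHom C).obj S.X₁) 1) :=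
    (Groth.Agent.Dual3Lib.bijective_extHH ((DCoh.sheafHom C).obj S.X₁) 1).1.subsingleton
  let iso := HomCohLib.sheafHomIso (M := C) S.X₁
  haveI : Subsingleton (Ext.{u} (Coh.structureModule Y) S'.X₁ 1) := ⟨fun a b => by
    have key : ∀ z : Ext.{u} (Coh.structureModule Y) S'.X₁ 1, z = 0 := fun z => by
      have h2 : (z.comp (Ext.mk₀ iso.inv) (add_zero 1)).comp (Ext.mk₀ iso.hom) (add_zero 1) = z := by
        rw [Ext.comp_assoc_of_second_deg_zero, Ext.mk₀_comp_mk₀, iso.inv_hom_id, Ext.comp_mk₀_id]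
      rw [← h2, Subsingleton.elim (z.comp (Ext.mk₀ iso.inv) (add_zero 1)) 0, Ext.zero_comp]
    rw [key a, key b]⟩
  obtain ⟨w, hw⟩ := Ext.covariant_sequence_exact₃ (Coh.structureModule Y) hS'
    (Ext.mk₀ (kernel.lift (cokernel.π φ) v hv)) (rfl : 0 + 1 = 1) (Subsingleton.elim _ _)
  obtain ⟨w, rfl⟩ := (Ext.mk₀_bijective _ _).2 w
  rw [Ext.mk₀_comp_mk₀] at hw
  have hwv : w ≫ φ = v := by
    have h2 := (Ext.mk₀_bijective _ _).1 hw
    rw [← Abelian.image.fac φ, ← Category.assoc]
    refine (congrArg (· ≫ Abelian.image.ι φ) h2).trans ?_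
    exact kernel.lift_ι _ _ _
  let e1 : Γ(Coh.structureModule Y, (⊤ : Y.Opens)) := (1 : Γ(Y, ⊤))
  have hφ1 : φ.app ⊤ (w.app ⊤ e1) = one := by
    refine (congrArg (fun θ : Coh.structureModule Y ⟶ homMod C C => θ.app ⊤ e1) hwv).trans ?_
    refine (QCohLib.unitHom_app _ one ⊤ (1 : Γ(Y, ⊤))).trans ((one_smul _ _).trans ?_)
    exact congr($((homMod C C).presheaf.map_id (op ⊤)) one)
  let σ : C ⟶ S.X₂ := HomCohLib.toHom (w.app ⊤ e1)
  have hσ : σ ≫ S.g = 𝟙 _ := by
    rw [← HomCohLib.toHom_mapR, hφ1, HomCohLib.toHom_ofHom]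
  exact ⟨(ShortComplex.Splitting.ofExactOfSection S hS.exact σ hσ hS.mono_f).r,
    (ShortComplex.Splitting.ofExactOfSection S hS.exact σ hσ hS.mono_f).f_r⟩

variable {X : Scheme.{u}} {k : Type u} [Field k] (x : X ⟶ ArtFun.Art.specPt k) (I₀ : X.IdealSheafData)

/-- Extensions of `I₀` split if its deformations lift locally and `H¹` of the normal sheaf vanishes. -/
theorem splitsLocKR_of_locLifts [IsLocallyNoetherian X]
    (hgood : ∀ y : I₀.subscheme, ∃ V : X.affineOpens, I₀.subschemeι y ∈ V.1 ∧ LocLifts x I₀ V)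
    [DCoh.HasSheafHom (Omega.conormal I₀.subschemeι)]
    (h1 : Subsingleton (Coh.HH I₀.subscheme ((DCoh.sheafHom (Omega.conormal I₀.subschemeι)).obj
      (Coh.structureModule I₀.subscheme)) 1)) : SplitsLocKR x I₀ := by
  intro T κ ε w hTq hS _ hret
  haveI := hTq
  refine exists_retraction_of_pullback I₀ κ ε w hS (fun y => ?_) fun E f g w' hE hEq hρ => ?_
  · obtain ⟨V, hy, hV⟩ := hgood y
    obtain ⟨ρ, hρ⟩ := hret V hV
    refine ⟨V, hy, fun z hz => ?_⟩
    rw [← hρ z]
    refine Submodule.smul_induction_on hz (fun r hr m _ => ?_) (fun a b ha hb => by rw [map_add, ha, hb, add_zero])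
    rw [map_smul]
    show @HMul.hMul Γ(I₀.subscheme, I₀.subschemeι ⁻¹ᵁ V.1) Γ(I₀.subscheme, I₀.subschemeι ⁻¹ᵁ V.1)
      Γ(I₀.subscheme, I₀.subschemeι ⁻¹ᵁ V.1) _ ((I₀.subschemeι.app V.1).hom r) (ρ m) = 0
    rw [show (I₀.subschemeι.app V.1).hom r = 0 from (GenFlatStrat.subschemeι_app_eq_zero_iff I₀ V r).2 hr, zero_mul]
  · haveI := hEq
    haveI : Coh.IsQCoh (ShortComplex.mk f g w').X₁ := QCohLib.isQCoh_unit
    haveI : Coh.IsQCoh (ShortComplex.mk f g w').X₃ :=
      haveI := SweepSix.ConormalSpec.isQCoh_idealMod I₀.subschemeι.ker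
      KFlatLib.isQCoh_pullback _ _
    refine exists_retraction_of_local hE h1 fun y => ?_
    obtain ⟨V, hy, hV⟩ := hgood y
    exact ⟨I₀.subschemeι ⁻¹ᵁ V.1, V.2.preimage _, hy, hρ V (hret V hV)⟩

end HilbObsLib
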