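import Groth.Agent.HilbObsLib.Alg
import Groth.Agent.HilbObsLib.Base
import Groth.Agent.HilbObsLib.Sections
import Groth.Agent.MiscFlat6.CounitIdeal
import Groth.Agent.CurvLib.Divisor
import Groth.Prelude.Def_ArtFun6
import Groth.Agent.LCIDefLib.Core
import Groth.Agent.DefLib.ArtGlobal
import Groth.Agent.S0440
import Mathlib.CategoryTheory.Abelian.Ext

/-!
# The local Hilbert functor is smooth when `Ext¹(I, O/I) = 0`
-/

set_option autoImplicit false
set_option linter.style.haveILetI false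
set_option linter.unusedSectionVars false
set_option backward.isDefEq.respectTransparency false
set_option backward.isDefEq.respectTransparency.types false
set_option maxHeartbeats 2000000
universe u

open CategoryTheory CategoryTheory.Limits AlgebraicGeometry TopologicalSpace Opposite IsLocalRing
open KFlatLib (pb puSec)

noncomputable section

namespace HilbObsLib

variable {k : Type u} [Field k] {X : Scheme.{u}} (x : X ⟶ ArtFun.Art.specPt k) (I₀ : X.IdealSheafData)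
  {B A : ArtFun.Art k k} (μ : B ⟶ A)

local notation "ZB" => ArtFun.Art.XA x B
local notation "ι₀" => ArtFun.Art.XAincl x B
local notation "jμ" => ArtFun.Art.XAmap x μ

/-- `B → Γ(X ×_k Spec B, U)`. -/
abbrev sB (U : (ArtFun.Art.XA x B).Opens) := (str (R := CommRingCat.of B) (ArtFun.Art.XApr x B) U).hom

theorem flat_XApr (A : ArtFun.Art k k) : Flat (ArtFun.Art.XApr x A) := by
  haveI := flat_of_field x
  infer_instance

theorem mem_max_of_ker {c : B} (hc : μ.toAlgHom c = 0) : c ∈ maximalIdeal B := by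
  rw [ArtFun.Art.mem_maximalIdeal_iff, ← ArtFun.Art.res_app μ c]
  exact (congrArg A.res hc).trans (map_zero _)

theorem ker_res (A : ArtFun.Art k k) : RingHom.ker A.res.toRingHom = maximalIdeal A :=
  IsLocalRing.eq_maximalIdeal (RingHom.ker_isMaximal_of_surjective _ A.res_surjective)

theorem ker_incl_app {U : (ArtFun.Art.XA x B).Opens} (hU : IsAffineOpen U) :
    RingHom.ker ((ι₀).app U).hom = (maximalIdeal B).map (sB x U) := by
  rw [← ker_res B]
  exact ker_app_eq (ArtFun.isPullback_XAincl x B) B.res_surjective hU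

theorem isClosedImmersion_incl (B : ArtFun.Art k k) :
    IsClosedImmersion (ArtFun.Art.XAincl x B) := by
  haveI : IsClosedImmersion (ArtFun.Art.specRes B) := IsClosedImmersion.spec_of_surjective _ B.res_surjective
  exact MorphismProperty.of_isPullback (P := @IsClosedImmersion) (ArtFun.isPullback_XAincl x B).flip inferInstance

theorem surjective_incl (B : ArtFun.Art k k) : Function.Surjective (ArtFun.Art.XAincl x B) := by
  haveI : Subsingleton (PrimeSpectrum B) :=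
    ⟨fun p q => PrimeSpectrum.ext ((IsLocalRing.eq_maximalIdeal (IsArtinianRing.isMaximal_of_isPrime p.asIdeal)).trans
      (IsLocalRing.eq_maximalIdeal (IsArtinianRing.isMaximal_of_isPrime q.asIdeal)).symm)⟩
  haveI : Surjective (ArtFun.Art.specRes B) :=
    ⟨fun p => ⟨IsLocalRing.closedPoint k, Subsingleton.elim (α := PrimeSpectrum B) _ _⟩⟩
  haveI : Surjective (ArtFun.Art.XAincl x B) :=
    MorphismProperty.of_isPullback (P := @Surjective) (ArtFun.isPullback_XAincl x B).flip inferInstance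
  exact (ArtFun.Art.XAincl x B).surjective

theorem isClosedImmersion_map (hμ : Function.Surjective μ.toAlgHom) : IsClosedImmersion jμ := by
  haveI : IsClosedImmersion (ArtFun.Art.specMap μ) := IsClosedImmersion.spec_of_surjective _ hμ
  exact MorphismProperty.of_isPullback (P := @IsClosedImmersion) (ArtFun.Art.isPullback_XAmap x μ).flip inferInstance

/-- The small extension on an affine open. -/
theorem small_affine (hμ : Function.Surjective μ.toAlgHom) {t : B} (hker : RingHom.ker μ.toAlgHom.toRingHom = Ideal.span {t})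
    (ht : ∀ c ∈ maximalIdeal B, c * t = 0) {U : (ArtFun.Art.XA x B).Opens} (hU : IsAffineOpen U) :
    letI := (sB x U).toAlgebra
    letI := (str (R := CommRingCat.of A) (ArtFun.Art.XApr x A) ((jμ) ⁻¹ᵁ U)).hom.toAlgebra
    Small (P := Γ(ArtFun.Art.XA x B, U)) (PA := Γ(ArtFun.Art.XA x A, (jμ) ⁻¹ᵁ U)) μ.toAlgHom.toRingHom
      ((jμ).app U).hom t := by
  letI := (sB x U).toAlgebra
  letI := (str (R := CommRingCat.of A) (ArtFun.Art.XApr x A) ((jμ) ⁻¹ᵁ U)).hom.toAlgebra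
  obtain ⟨-, hs⟩ := app_surjective_of_sq (ArtFun.Art.isPullback_XAmap x μ) hμ hU
  refine ⟨hμ, hker, ht, ?_, congrArg CommRingCat.Hom.hom (str_app (ArtFun.Art.isPullback_XAmap x μ) U), hs, ?_⟩
  · exact mem_max_of_ker μ (RingHom.mem_ker.1 (hker.ge (Ideal.mem_span_singleton_self t)))
  · rw [← hker]
    exact ker_app_eq (ArtFun.Art.isPullback_XAmap x μ) hμ hU

theorem flat_affine {U : (ArtFun.Art.XA x B).Opens} (hU : IsAffineOpen U) :
    letI := (sB x U).toAlgebra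
    Module.Flat B Γ(ArtFun.Art.XA x B, U) :=
  haveI := flat_XApr x B
  flat_str (R := CommRingCat.of B) (ArtFun.Art.XApr x B) hU

theorem flat_quot_affine (J : (ArtFun.Art.XA x B).IdealSheafData) (hJ : ArtFun.FlatOver X x B J)
    (U : (ArtFun.Art.XA x B).affineOpens) :
    letI := (sB x U.1).toAlgebra
    Module.Flat B (Γ(ArtFun.Art.XA x B, U.1) ⧸ J.ideal U) :=
  letI := (sB x U.1).toAlgebra
  RingHom.flat_algebraMap_iff.1 ((flat_subscheme_iff (R := CommRingCat.of B) J (ArtFun.Art.XApr x B)).1 hJ U)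

/-- Flat deformations of `I₀` over `V` lift along small extensions. -/
def LocLifts (V : X.affineOpens) : Prop :=
  ∀ {B A : ArtFun.Art k k} (μ : B ⟶ A), Function.Surjective μ.toAlgHom → ∀ (t : B),
    RingHom.ker μ.toAlgHom.toRingHom = Ideal.span {t} → (∀ c ∈ maximalIdeal B, c * t = 0) →
    ∀ U : (ArtFun.Art.XA x B).affineOpens, (ArtFun.Art.XAincl x B) ⁻¹ᵁ U.1 = V.1 →
      ∀ (IA : (ArtFun.localHilb X x I₀).obj A) (hU' : IsAffineOpen ((ArtFun.Art.XAmap x μ) ⁻¹ᵁ U.1)),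
        letI := (sB x U.1).toAlgebra
        ∃ K : Ideal Γ(ArtFun.Art.XA x B, U.1), Module.Flat B (Γ(ArtFun.Art.XA x B, U.1) ⧸ K) ∧
          K.map ((ArtFun.Art.XAmap x μ).app U.1).hom = IA.1.ideal ⟨(ArtFun.Art.XAmap x μ) ⁻¹ᵁ U.1, hU'⟩

/-- What is needed of an extension of `I₀` by `O/I₀` to lift: if it stays injective modulo `I₀` near the
points where `I₀` is Koszul regular, then it splits. -/
def SplitsLocKR : Prop :=
  ∀ (T : X.Modules) (κ : ClSub.quotMod I₀ ⟶ T) (ε : T ⟶ ClSub.idealMod I₀) (w : κ ≫ ε = 0),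
    Coh.IsQCoh T → (ShortComplex.mk κ ε w).ShortExact →
    (∀ (W : X.Opens) (p : X), p ∈ W → ∃ V : X.affineOpens, V.1 ≤ W ∧ p ∈ V.1 ∧
      (LocallyOfFiniteType x → KRLib.LocKR (I₀.ideal V) → ∀ y : Γ(ClSub.quotMod I₀, V.1),
        κ.app V.1 y ∈ I₀.ideal V • (⊤ : Submodule Γ(X, V.1) Γ(T, V.1)) → y = 0)) →
    (∀ V : X.affineOpens, LocLifts x I₀ V → ∃ ρ : Γ(T, V.1) →ₗ[Γ(X, V.1)] Γ(ClSub.quotMod I₀, V.1),
      ∀ y, ρ (κ.app V.1 y) = y) →
    ∃ r : T ⟶ ClSub.quotMod I₀, κ ≫ r = 𝟙 _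

theorem splitsLocKR_of_ext [HasExt.{u} X.Modules]
    (hExt : Subsingleton (Abelian.Ext.{u} (ClSub.idealMod I₀) (ClSub.quotMod I₀) 1)) : SplitsLocKR x I₀ := by
  intro T κ ε w _ hS _ _
  obtain ⟨x₂, hx₂⟩ := Abelian.Ext.contravariant_sequence_exact₁ hS (ClSub.quotMod I₀)
    (Abelian.Ext.mk₀ (𝟙 (ClSub.quotMod I₀))) (rfl : 1 + 0 = 1) (hExt.elim _ _)
  obtain ⟨r, rfl⟩ := (Abelian.Ext.mk₀_bijective _ _).2 x₂
  rw [Abelian.Ext.mk₀_comp_mk₀] at hx₂
  exact ⟨r, (Abelian.Ext.mk₀_bijective _ _).1 hx₂⟩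

/-- Lifting along a small extension with principal kernel. -/
theorem exists_lift_small_of_split (hSplit : SplitsLocKR x I₀)
    (hμ : Function.Surjective μ.toAlgHom) {t : B} (hker : RingHom.ker μ.toAlgHom.toRingHom = Ideal.span {t})
    (ht : ∀ c ∈ maximalIdeal B, c * t = 0) (ht0 : t ≠ 0) (IA : (ArtFun.localHilb X x I₀).obj A) :
    ∃ IB, (ArtFun.localHilb X x I₀).map μ IB = IA := by
  classical
  haveI := isClosedImmersion_map x μ hμ
  haveI := isClosedImmersion_incl x B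
  let ι := ι₀
  let Kt : (ZB).IdealSheafData := IA.1.map jμ
  have hKA : Kt.comap jμ = IA.1 := comap_map_closed _ IA.1
  have hK0 : Kt.comap ι = I₀ := by
    rw [show ι = ArtFun.Art.XAincl x A ≫ jμ from (ArtFun.Art.XAincl_XAmap x μ).symm,
      Scheme.IdealSheafData.comap_comp, hKA]
    exact IA.2.2
  have hKU : ∀ U : (ZB).affineOpens,
      Kt.ideal U = (IA.1.ideal ⟨(jμ) ⁻¹ᵁ U.1, U.2.preimage _⟩).comap ((jμ).app U.1).hom := fun U =>
    Scheme.IdealSheafData.ideal_map_of_isAffineHom _ _ _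
  have hI₀U : ∀ U : (ZB).affineOpens,
      I₀.ideal ⟨ι ⁻¹ᵁ U.1, U.2.preimage ι⟩ = (Kt.ideal U).map (ι.app U.1).hom := fun U => by
    rw [← hK0, ← RGFlatLib.ideal_comap_appLE ι Kt U.2 (U.2.preimage ι) le_rfl, ← Scheme.Hom.app_eq_appLE]
  have hsurjι : ∀ U : (ZB).affineOpens, Function.Surjective (ι.app U.1).hom := fun U =>
    Scheme.Hom.app_surjective ι U.1 U.2
  have cover : ∀ p : X, ∃ U : (ZB).affineOpens, p ∈ ι ⁻¹ᵁ U.1 := fun p => by
    obtain ⟨W, hW, hp⟩ := QCohLib.exists_affine_nhd (ι p)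
    exact ⟨⟨W, hW⟩, hp⟩
  -- the ideal module and its pullback
  let F := ClSub.idealMod Kt
  haveI : Coh.IsQCoh F := SweepSix.ConormalSpec.isQCoh_idealMod Kt
  haveI : Coh.IsQCoh (Coh.structureModule X) := QCohLib.isQCoh_unit
  haveI : Coh.IsQCoh (Coh.structureModule I₀.subscheme) := QCohLib.isQCoh_unit
  haveI : Coh.IsQCoh (ClSub.idealMod I₀) := SweepSix.ConormalSpec.isQCoh_idealMod I₀
  haveI : Coh.IsQCoh (ClSub.quotMod I₀) := QCohLib.isQCoh_pushforward _ _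
  let T := pb ι F
  haveI : Coh.IsQCoh T := KFlatLib.isQCoh_pullback ι F
  let val : ∀ U : (ZB).Opens, Γ(F, U) → Γ(ZB, U) := fun U s => OmegaSh.fnSect _ U ((ClSub.idealModι Kt).app U s)
  have val_add : ∀ {U : (ZB).Opens} (a b : Γ(F, U)), val U (a + b) = val U a + val U b := fun a b => by
    simp only [val, map_add]
  have val_smul : ∀ {U : (ZB).Opens} (r : Γ(ZB, U)) (a : Γ(F, U)), val U (r • a) = r * val U a := fun r a =>
    congrArg (OmegaSh.fnSect _ _) (QCohLib.app_smul (ClSub.idealModι Kt) _ r a)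
  haveI : Mono (ClSub.idealModι Kt) := inferInstanceAs (Mono (kernel.ι _))
  have val_inj : ∀ {U : (ZB).Opens}, Function.Injective (val U) := fun {U} a b hab =>
    QCohLib.app_injective_of_mono (ClSub.idealModι Kt) U hab
  have val_mem : ∀ (U : (ZB).affineOpens) (s : Γ(F, U.1)), val U.1 s ∈ Kt.ideal U :=
    GenFlatStrat.idealModι_mem Kt
  have val_surj : ∀ (U : (ZB).affineOpens) (p : Γ(ZB, U.1)), p ∈ Kt.ideal U → ∃ s, val U.1 s = p :=
    GenFlatStrat.exists_idealMod_section Kt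
  -- the section `t`
  have tmem : ∀ U : (ZB).affineOpens, sB x U.1 t ∈ Kt.ideal U := fun U => by
    letI := (sB x U.1).toAlgebra
    letI := (str (R := CommRingCat.of A) (ArtFun.Art.XApr x A) ((jμ) ⁻¹ᵁ U.1)).hom.toAlgebra
    rw [hKU]
    exact (small_affine x μ hμ hker ht U.2).t_mem_comap _
  obtain ⟨st, hst⟩ : ∃ st : Γ(F, ⊤), val ⊤ st = sB x ⊤ t := by
    have h0 : (Kt.subschemeι.app ⊤).hom (sB x ⊤ t) = 0 := by
      refine TopCat.Sheaf.eq_of_locally_eq' Kt.subscheme.sheaf (fun U : (ZB).affineOpens => Kt.subschemeι ⁻¹ᵁ U.1)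
        (Kt.subschemeι ⁻¹ᵁ ⊤) (fun U => homOfLE (fun _ h => trivial)) ?_ _ _ fun U => ?_
      · intro z _
        obtain ⟨W, hW, hz⟩ := QCohLib.exists_affine_nhd (Kt.subschemeι z)
        exact Opens.mem_iSup.2 ⟨⟨W, hW⟩, hz⟩
      · rw [map_zero]
        have h1 := congr($(Kt.subschemeι.naturality (homOfLE (le_top : U.1 ≤ ⊤)).op) (sB x ⊤ t))
        refine Eq.trans ?_ ((GenFlatStrat.subschemeι_app_eq_zero_iff Kt U _).2 (tmem U))
        refine h1.symm.trans (congrArg (Kt.subschemeι.app U.1).hom ?_)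
        exact congr($(str_res (R := CommRingCat.of B) (ArtFun.Art.XApr x B) (le_top : U.1 ≤ ⊤)) t)
    exact QCohLib.exists_of_app_eq_zero
      (S := ShortComplex.mk (ClSub.idealModι Kt) (ClSub.toSubscheme Kt) (kernel.condition _))
      (ShortComplex.exact_of_f_is_kernel _ (kernelIsKernel _)) (inferInstanceAs (Mono (kernel.ι _)))
      (sB x ⊤ t : Γ(Coh.structureModule ZB, ⊤)) h0
  let sU : ∀ U : (ZB).Opens, Γ(F, U) := fun U => F.presheaf.map (homOfLE (le_top : U ≤ ⊤)).op st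
  have val_sU : ∀ U : (ZB).Opens, val U (sU U) = sB x U t := fun U => by
    refine (congrArg (OmegaSh.fnSect _ U)
      (QCohLib.app_map (ClSub.idealModι Kt) (homOfLE (le_top : U ≤ ⊤)) st)).trans ?_
    show (ZB).presheaf.map (homOfLE (le_top : U ≤ ⊤)).op (val ⊤ st) = _
    rw [hst]
    exact congr($(str_res (R := CommRingCat.of B) (ArtFun.Art.XApr x B) (le_top : U ≤ ⊤)) t)
  -- structure maps
  let σt : Γ(T, (⊤ : X.Opens)) := puSec ι st
  let τ : Coh.structureModule X ⟶ T := QCohLib.unitHom T σt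
  have hτ : ∀ (U : (ZB).Opens) (r : Γ(X, ι ⁻¹ᵁ U)), τ.app (ι ⁻¹ᵁ U) r = r • puSec ι (sU U) := fun U r => by
    rw [QCohLib.unitHom_app]
    congr 1
    exact (puSec_res ι (le_top : U ≤ ⊤) st).symm
  let ν : F ⟶ (Scheme.Modules.pushforward ι).obj (Coh.structureModule X) :=
    ClSub.idealModι Kt ≫ ClSub.unitToPush ι
  let ε' : T ⟶ Coh.structureModule X :=
    ((Scheme.Modules.pullbackPushforwardAdjunction ι).homEquiv _ _).symm ν
  have hε' : ∀ (U : (ZB).Opens) (s : Γ(F, U)), ε'.app (ι ⁻¹ᵁ U) (puSec ι s) = (ι.app U).hom (val U s) := fun U s =>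
    homEquiv_symm_app ι ν U s
  have hker_pu : ∀ (U : (ZB).affineOpens) (s : Γ(F, U.1)), puSec ι s = 0 ↔
      val U.1 s ∈ (maximalIdeal B).map (sB x U.1) * Kt.ideal U := fun U s => by
    rw [(puSec_closed ι F U.2).2, ker_incl_app x U.2]
    constructor
    · intro h
      refine Submodule.smul_induction_on h (fun r hr a _ => ?_) fun a b ha hb => by rw [val_add]; exact add_mem ha hb
      rw [val_smul]
      exact Ideal.mul_mem_mul hr (val_mem U a)
    · intro h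
      obtain ⟨a, ha, hav⟩ : ∃ a ∈ (maximalIdeal B).map (sB x U.1) • (⊤ : Submodule Γ(ZB, U.1) Γ(F, U.1)),
          val U.1 a = val U.1 s := by
        refine Submodule.mul_induction_on h (fun r hr p hp => ?_) ?_
        · obtain ⟨a, rfl⟩ := val_surj U p hp
          exact ⟨r • a, Submodule.smul_mem_smul hr Submodule.mem_top, val_smul r a⟩
        · rintro p p' ⟨a, ha, rfl⟩ ⟨b, hb, rfl⟩
          exact ⟨a + b, add_mem ha hb, val_add a b⟩
      exact val_inj hav ▸ ha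
  have hqm : ∀ (U : (ZB).affineOpens) (p : Γ(ZB, U.1)),
      (ι.app U.1).hom p = 0 ↔ p ∈ (maximalIdeal B).map (sB x U.1) := fun U p => by
    rw [← ker_incl_app x U.2, RingHom.mem_ker]
  have hq0 : ∀ (U : (ZB).affineOpens) (p : Γ(ZB, U.1)), (ι.app U.1).hom p ∈ I₀.ideal ⟨ι ⁻¹ᵁ U.1, U.2.preimage ι⟩ ↔
      p ∈ Kt.ideal U ⊔ (maximalIdeal B).map (sB x U.1) := fun U p => by
    rw [hI₀U]
    constructor
    · intro h
      obtain ⟨y, hy, hyp⟩ := (Ideal.mem_map_iff_of_surjective _ (hsurjι U)).1 h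
      rw [← add_sub_cancel y p]
      refine Submodule.add_mem_sup hy ((hqm U _).1 ?_)
      rw [map_sub, hyp, sub_self]
    · intro h
      obtain ⟨a, ha, b, hb, rfl⟩ := Submodule.mem_sup.1 h
      rw [map_add, (hqm U b).2 hb, add_zero]
      exact Ideal.mem_map_of_mem _ ha
  -- the sequence `0 → O/I₀ → T → I₀ → 0`
  have hεsub : ε' ≫ ClSub.toSubscheme I₀ = 0 := eq_zero_of_app _ fun p => by
    obtain ⟨U, hp⟩ := cover p
    refine ⟨ι ⁻¹ᵁ U.1, U.2.preimage ι, hp, fun y => ?_⟩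
    obtain ⟨s, rfl⟩ := (puSec_closed ι F U.2).1 y
    refine (GenFlatStrat.subschemeι_app_eq_zero_iff I₀ ⟨_, U.2.preimage ι⟩ (ε'.app _ (puSec ι s))).2 ?_
    rw [hε']
    exact (hq0 U _).2 (Submodule.mem_sup_left (val_mem U s))
  let ε : T ⟶ ClSub.idealMod I₀ := kernel.lift _ ε' hεsub
  have hει : ε ≫ ClSub.idealModι I₀ = ε' := kernel.lift_ι _ _ _
  have hετ : ∀ (U : (ZB).affineOpens) (p : Γ(ZB, U.1)),
      τ.app (ι ⁻¹ᵁ U.1) ((ι.app U.1).hom p) = puSec ι (p • sU U.1) := fun U p => by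
    rw [hτ, KFlatLib.puSec_smul]
  have hIτ : ClSub.idealModι I₀ ≫ τ = 0 := eq_zero_of_app _ fun p => by
    obtain ⟨U, hp⟩ := cover p
    refine ⟨ι ⁻¹ᵁ U.1, U.2.preimage ι, hp, fun y => ?_⟩
    have hy : OmegaSh.fnSect X _ ((ClSub.idealModι I₀).app (ι ⁻¹ᵁ U.1) y) ∈ _ :=
      GenFlatStrat.idealModι_mem I₀ ⟨_, U.2.preimage ι⟩ y
    rw [hI₀U] at hy
    obtain ⟨w, hw, hwy⟩ := (Ideal.mem_map_iff_of_surjective _ (hsurjι U)).1 hy
    show τ.app _ ((ClSub.idealModι I₀).app _ y) = 0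
    refine (congrArg (fun z : Γ(X, ι ⁻¹ᵁ U.1) => τ.app (ι ⁻¹ᵁ U.1) z) hwy.symm).trans ?_
    rw [hετ, hker_pu, val_smul, val_sU, mul_comm _ (sB x U.1 t)]
    exact Ideal.mul_mem_mul (Ideal.mem_map_of_mem _ (mem_max_of_ker μ (RingHom.mem_ker.1
      (hker.ge (Ideal.mem_span_singleton_self t))))) hw
  have hS₀ := CurvLib.idealSeq_shortExact I₀
  haveI : Epi (ClSub.toSubscheme I₀) := hS₀.epi_g
  haveI : Epi (CurvLib.idealSeq I₀).g := hS₀.epi_g
  let κ : ClSub.quotMod I₀ ⟶ T := hS₀.exact.desc τ hIτ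
  have hκ : ClSub.toSubscheme I₀ ≫ κ = τ := hS₀.exact.g_desc _ _
  have hlift : ∀ (U : (ZB).affineOpens) (y : Γ(ClSub.quotMod I₀, ι ⁻¹ᵁ U.1)),
      ∃ p, (ClSub.toSubscheme I₀).app (ι ⁻¹ᵁ U.1) ((ι.app U.1).hom p) = y := fun U y => by
    obtain ⟨r, hr⟩ := Scheme.Hom.app_surjective I₀.subschemeι (ι ⁻¹ᵁ U.1) (U.2.preimage ι) y
    obtain ⟨p, rfl⟩ := hsurjι U r
    exact ⟨p, hr⟩
  have hκp : ∀ (U : (ZB).affineOpens) (p : Γ(ZB, U.1)), κ.app (ι ⁻¹ᵁ U.1)
      ((ClSub.toSubscheme I₀).app (ι ⁻¹ᵁ U.1) ((ι.app U.1).hom p)) = puSec ι (p • sU U.1) := fun U p => by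
    rw [← hετ, ← hκ]
    rfl
  have hinfl : ∀ U : (ZB).affineOpens, (maximalIdeal B).map (sB x U.1) ⊓ Kt.ideal U ≤
      (Ideal.span {t}).map (sB x U.1) ⊔ (maximalIdeal B).map (sB x U.1) * Kt.ideal U := fun U => by
    letI := (sB x U.1).toAlgebra
    letI := (str (R := CommRingCat.of A) (ArtFun.Art.XApr x A) ((jμ) ⁻¹ᵁ U.1)).hom.toAlgebra
    haveI := flat_quot_affine x IA.1 IA.2.1 ⟨(jμ) ⁻¹ᵁ U.1, U.2.preimage _⟩
    rw [hKU]
    exact (small_affine x μ hμ hker ht U.2).inf_le _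
  have hsup : ∀ (U : (ZB).affineOpens) (p : Γ(ZB, U.1)),
      sB x U.1 t * p ∈ (maximalIdeal B).map (sB x U.1) * Kt.ideal U →
        p ∈ Kt.ideal U ⊔ (maximalIdeal B).map (sB x U.1) := fun U p hp => by
    letI := (sB x U.1).toAlgebra
    letI := (str (R := CommRingCat.of A) (ArtFun.Art.XApr x A) ((jμ) ⁻¹ᵁ U.1)).hom.toAlgebra
    haveI := flat_quot_affine x IA.1 IA.2.1 ⟨(jμ) ⁻¹ᵁ U.1, U.2.preimage _⟩
    haveI := flat_affine x (B := A) (U := (jμ) ⁻¹ᵁ U.1) (U.2.preimage _)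
    haveI := flat_affine x (B := B) U.2
    rw [hKU] at hp ⊢
    exact (small_affine x μ hμ hker ht U.2).mem_sup_of_mul_mem _ ht0 hp
  haveI : Mono κ := DevissExt.mono_of_app_injective κ fun p => by
    obtain ⟨U, hp⟩ := cover p
    refine ⟨ι ⁻¹ᵁ U.1, U.2.preimage ι, hp, (injective_iff_map_eq_zero _).2 fun y hy => ?_⟩
    obtain ⟨p, rfl⟩ := hlift U y
    rw [hκp, hker_pu, val_smul, val_sU, mul_comm _ (sB x U.1 t)] at hy
    exact (GenFlatStrat.subschemeι_app_eq_zero_iff I₀ ⟨_, U.2.preimage ι⟩ _).2 ((hq0 U p).2 (hsup U p hy))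
  have hκε : κ ≫ ε = 0 := by
    haveI : Mono (ClSub.idealModι I₀) := inferInstanceAs (Mono (kernel.ι _))
    rw [← cancel_epi (ClSub.toSubscheme I₀), ← Category.assoc, hκ, comp_zero, ← cancel_mono (ClSub.idealModι I₀),
      Category.assoc, hει, zero_comp]
    refine eq_zero_of_app _ fun p => ?_
    obtain ⟨U, hp⟩ := cover p
    refine ⟨ι ⁻¹ᵁ U.1, U.2.preimage ι, hp, fun r => ?_⟩
    obtain ⟨p, rfl⟩ := hsurjι U r
    show ε'.app _ (τ.app _ _) = 0
    rw [hετ, hε', val_smul, val_sU]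
    exact (hqm U _).2 (Ideal.mul_mem_left _ _ (Ideal.mem_map_of_mem _ (mem_max_of_ker μ (RingHom.mem_ker.1
      (hker.ge (Ideal.mem_span_singleton_self t))))))
  let S : ShortComplex X.Modules := ShortComplex.mk κ ε hκε
  haveI : Coh.IsQCoh S.X₁ := ‹Coh.IsQCoh (ClSub.quotMod I₀)›
  haveI : Coh.IsQCoh S.X₂ := ‹Coh.IsQCoh T›
  haveI : Coh.IsQCoh S.X₃ := ‹Coh.IsQCoh (ClSub.idealMod I₀)›
  haveI : Mono (ClSub.idealModι I₀) := inferInstanceAs (Mono (kernel.ι _))
  have hεval : ∀ (U : (ZB).affineOpens) (s : Γ(F, U.1)),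
      (ClSub.idealModι I₀).app _ (ε.app (ι ⁻¹ᵁ U.1) (puSec ι s)) = (ι.app U.1).hom (val U.1 s) := fun U s => by
    rw [← hε', ← hει]
    rfl
  have hS : S.ShortExact := by
    refine { exact := exact_of_app S fun p => ?_, mono_f := ‹Mono κ›, epi_g := epi_of_app_surjective ε fun p => ?_ }
    · obtain ⟨U, hp⟩ := cover p
      refine ⟨ι ⁻¹ᵁ U.1, U.2.preimage ι, hp, fun y hy => ?_⟩
      obtain ⟨s, rfl⟩ := (puSec_closed ι F U.2).1 y
      have h1 : (ι.app U.1).hom (val U.1 s) = 0 := by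
        rw [← hεval, show ε.app (ι ⁻¹ᵁ U.1) (puSec ι s) = 0 from hy, map_zero]
      obtain ⟨a, ha, b, hb, hab⟩ := Submodule.mem_sup.1 (hinfl U ⟨(hqm U _).1 h1, val_mem U s⟩)
      rw [Ideal.map_span, Set.image_singleton] at ha
      obtain ⟨p, rfl⟩ := Ideal.mem_span_singleton'.1 ha
      refine ⟨(ClSub.toSubscheme I₀).app (ι ⁻¹ᵁ U.1) ((ι.app U.1).hom p), (hκp U p).trans ?_⟩
      have h2 : puSec ι (s - p • sU U.1) = 0 := by
        rw [hker_pu]
        have h3 : val U.1 (s - p • sU U.1) = b := by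
          have h4 := val_add (s - p • sU U.1) (p • sU U.1)
          rw [sub_add_cancel, val_smul, val_sU] at h4
          linear_combination -h4 - hab
        rw [h3]
        exact hb
      have h5 := map_sub (((Scheme.Modules.pullbackPushforwardAdjunction ι).unit.app F).app U.1).hom s (p • sU U.1)
      exact (sub_eq_zero.1 (h5.symm.trans h2)).symm
    · obtain ⟨U, hp⟩ := cover p
      refine ⟨ι ⁻¹ᵁ U.1, U.2.preimage ι, hp, fun y => ?_⟩
      have hy : OmegaSh.fnSect X _ ((ClSub.idealModι I₀).app (ι ⁻¹ᵁ U.1) y) ∈ _ :=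
        GenFlatStrat.idealModι_mem I₀ ⟨_, U.2.preimage ι⟩ y
      rw [hI₀U] at hy
      obtain ⟨w, hw, hwy⟩ := (Ideal.mem_map_iff_of_surjective _ (hsurjι U)).1 hy
      obtain ⟨s, rfl⟩ := val_surj U w hw
      exact ⟨puSec ι s, QCohLib.app_injective_of_mono (ClSub.idealModι I₀) _ ((hεval U s).trans hwy)⟩
  -- injectivity modulo `I₀` where it is Koszul regular
  have hinj : ∀ (W : X.Opens) (p : X), p ∈ W → ∃ V : X.affineOpens, V.1 ≤ W ∧ p ∈ V.1 ∧
      (LocallyOfFiniteType x → KRLib.LocKR (I₀.ideal V) → ∀ y : Γ(ClSub.quotMod I₀, V.1),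
        κ.app V.1 y ∈ I₀.ideal V • (⊤ : Submodule Γ(X, V.1) Γ(T, V.1)) → y = 0) := by
    intro W p hp
    obtain ⟨W', hW', hWW'⟩ := ι.isClosedEmbedding.isInducing.isOpen_iff.1 W.2
    obtain ⟨U', hU', hpU, hUW⟩ := exists_isAffineOpen_mem_and_subset (X := ZB) (x := ι p) (U := ⟨W', hW'⟩)
      (hWW'.ge hp)
    let U : (ZB).affineOpens := ⟨U', hU'⟩
    refine ⟨⟨ι ⁻¹ᵁ U.1, U.2.preimage ι⟩, fun z hz => hWW'.le (hUW hz), hpU, fun hft hKR y hy => ?_⟩
    haveI := hft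
    haveI : LocallyOfFiniteType (ArtFun.Art.XApr x B) :=
      MorphismProperty.of_isPullback (P := @LocallyOfFiniteType) (IsPullback.of_hasPullback _ _) inferInstance
    haveI : IsNoetherianRing (CommRingCat.of B) := inferInstanceAs (IsNoetherianRing B)
    haveI : IsLocallyNoetherian (ArtFun.Art.XA x B) :=
      LocallyOfFiniteType.isLocallyNoetherian (ArtFun.Art.XApr x B)
    haveI : IsNoetherianRing Γ(ArtFun.Art.XA x B, U.1) := IsLocallyNoetherian.component_noetherian U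
    obtain ⟨p', rfl⟩ := hlift U y
    rw [hκp] at hy
    obtain ⟨v, hv, hvy⟩ : ∃ v : Γ(F, U.1), val U.1 v ∈ Kt.ideal U * Kt.ideal U ∧
        puSec ι v = puSec ι (p' • sU U.1) := by
      refine Submodule.smul_induction_on hy (fun r hr m _ => ?_) ?_
      · rw [hI₀U] at hr
        obtain ⟨a, ha, rfl⟩ := (Ideal.mem_map_iff_of_surjective _ (hsurjι U)).1 hr
        obtain ⟨s, rfl⟩ := (puSec_closed ι F U.2).1 m
        exact ⟨a • s, by rw [val_smul]; exact Ideal.mul_mem_mul ha (val_mem U s), KFlatLib.puSec_smul ι a s⟩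
      · rintro m m' ⟨v, hv, rfl⟩ ⟨v', hv', rfl⟩
        exact ⟨v + v', by rw [val_add]; exact add_mem hv hv',
          map_add (((Scheme.Modules.pullbackPushforwardAdjunction ι).unit.app F).app U.1).hom v v'⟩
    have h0 : puSec ι (p' • sU U.1 - v) = 0 := by
      have h5 := map_sub (((Scheme.Modules.pullbackPushforwardAdjunction ι).unit.app F).app U.1).hom (p' • sU U.1) v
      exact h5.trans (sub_eq_zero.2 hvy.symm)
    rw [hker_pu] at h0
    have h1 := val_add (p' • sU U.1 - v) v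
    rw [sub_add_cancel, val_smul, val_sU, mul_comm p'] at h1
    letI := (sB x U.1).toAlgebra
    letI := (ι.app U.1).hom.toAlgebra
    haveI := flat_affine x (B := B) U.2
    have hJm : Ideal.span {t} ≤ maximalIdeal B := Ideal.span_le.2 (Set.singleton_subset_iff.2
      (mem_max_of_ker μ (RingHom.mem_ker.1 (hker.ge (Ideal.mem_span_singleton_self t)))))
    have hgood : LCIDefLib.Good (I₀.ideal ⟨ι ⁻¹ᵁ U.1, U.2.preimage ι⟩) (Ideal.span {t}) (Kt.ideal U) := by
      refine ⟨?_, (hI₀U U).symm, hinfl U⟩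
      rw [Ideal.map_span, Set.image_singleton, Ideal.span_le, Set.singleton_subset_iff]
      exact tmem U
    have hmJ : maximalIdeal B * Ideal.span {t} ≤ ⊥ := Ideal.mul_le.2 fun m hm z hz => by
      obtain ⟨a, rfl⟩ := Ideal.mem_span_singleton'.1 hz
      rw [Ideal.mem_bot, show m * (a * t) = a * (m * t) by ring, ht m hm, mul_zero]
    have h2 := LCIDefLib.inf_le_local (hsurjι U) (ker_incl_app x U.2) hKR bot_le hJm hmJ hgood
      (⟨Ideal.mul_mem_right _ _ (Ideal.mem_map_of_mem _ (Ideal.mem_span_singleton_self t)),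
        Submodule.mem_sup_left (h1.symm ▸ add_mem (Submodule.mem_sup_right h0) (Submodule.mem_sup_left hv))⟩ :
        sB x U.1 t * p' ∈ (Ideal.span {t}).map (sB x U.1) ⊓
          (Kt.ideal U * Kt.ideal U ⊔ (maximalIdeal B).map (sB x U.1) * Kt.ideal U ⊔ (⊥ : Ideal B).map (sB x U.1)))
    rw [Ideal.map_bot, sup_bot_eq, Ideal.map_span, Set.image_singleton] at h2
    obtain ⟨q, hq, hqp⟩ := Ideal.mem_span_singleton_mul.1 h2
    have h3 : p' - q ∈ (maximalIdeal B).map (sB x U.1) :=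
      DefLib.mem_of_algebraMap_mul_mem LCIDefLib.maximalIdeal_isNilpotent (J' := ⊥) (ε := t) ht0 (by
        rw [Ideal.map_bot, Ideal.mem_bot, mul_sub]
        exact sub_eq_zero.2 hqp.symm)
    refine (GenFlatStrat.subschemeι_app_eq_zero_iff I₀ ⟨_, U.2.preimage ι⟩ _).2 ((hq0 U p').2 ?_)
    rw [← add_sub_cancel q p']
    exact Submodule.add_mem_sup hq h3
  -- retractions on sections where local lifts exist
  have hret : ∀ V : X.affineOpens, LocLifts x I₀ V → ∃ ρ : Γ(T, V.1) →ₗ[Γ(X, V.1)] Γ(ClSub.quotMod I₀, V.1),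
      ∀ y, ρ (κ.app V.1 y) = y := by
    intro V hV
    obtain ⟨W', hW', hWW'⟩ := ι.isClosedEmbedding.isInducing.isOpen_iff.1 V.1.2
    have hW : ι ⁻¹ᵁ (⟨W', hW'⟩ : (ZB).Opens) = V.1 := Opens.ext hWW'
    have hWaff : IsAffineOpen (⟨W', hW'⟩ : (ZB).Opens) := by
      haveI : IsAffine (ι ⁻¹ᵁ (⟨W', hW'⟩ : (ZB).Opens)).toScheme := (show IsAffineOpen (ι ⁻¹ᵁ _) from hW ▸ V.2)
      haveI : IsClosedImmersion (ι ∣_ (⟨W', hW'⟩ : (ZB).Opens)) :=
        IsZariskiLocalAtTarget.restrict (P := @IsClosedImmersion) (isClosedImmersion_incl x B) _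
      refine Groth.Agent.S0440.result (ι ∣_ (⟨W', hW'⟩ : (ZB).Opens)) fun z => ?_
      obtain ⟨p, hp⟩ := surjective_incl x B z.1
      have hpW : p ∈ ι ⁻¹ᵁ (⟨W', hW'⟩ : (ZB).Opens) :=
        (show ι p ∈ (⟨W', hW'⟩ : (ZB).Opens) from (show ι p = z.1 from hp) ▸ z.2)
      refine ⟨⟨p, hpW⟩, Subtype.ext ?_⟩
      rw [morphismRestrict_base_coe]
      exact hp
    let U : (ZB).affineOpens := ⟨_, hWaff⟩
    obtain rfl : V = ⟨ι ⁻¹ᵁ U.1, U.2.preimage ι⟩ := Subtype.ext hW.symm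
    letI := (sB x U.1).toAlgebra
    letI := (str (R := CommRingCat.of A) (ArtFun.Art.XApr x A) ((jμ) ⁻¹ᵁ U.1)).hom.toAlgebra
    have hsm := small_affine x μ hμ hker ht U.2
    obtain ⟨K', hKflat, hKmap⟩ := hV μ hμ t hker ht U rfl IA (U.2.preimage _)
    haveI := hKflat
    have hK'le : K' ≤ Kt.ideal U := by
      rw [hKU, ← hKmap]
      exact Ideal.le_comap_map
    have hKsum : ∀ p ∈ Kt.ideal U, ∃ q ∈ K', ∃ a, p = q + a * sB x U.1 t := fun p hp => by
      rw [hKU, ← hKmap, Ideal.comap_map_of_surjective' _ hsm.π_surj, hsm.ker_π, Ideal.map_span,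
        Set.image_singleton] at hp
      obtain ⟨q, hq, b, hb, rfl⟩ := Submodule.mem_sup.1 hp
      obtain ⟨a, rfl⟩ := Ideal.mem_span_singleton'.1 hb
      exact ⟨q, hq, a, rfl⟩
    have hmK : (maximalIdeal B).map (sB x U.1) * Kt.ideal U ≤ K' := Ideal.mul_le.2 fun m hm p hp => by
      obtain ⟨q, hq, a, rfl⟩ := hKsum p hp
      have h7 : sB x U.1 t * m = 0 := hsm.t_mul m hm
      rw [mul_add, show m * (a * sB x U.1 t) = a * (sB x U.1 t * m) by ring, h7, mul_zero, add_zero]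
      exact Ideal.mul_mem_left _ _ hq
    have hdiv : ∀ a : Γ(ZB, U.1), a * sB x U.1 t ∈ K' →
        (ClSub.toSubscheme I₀).app (ι ⁻¹ᵁ U.1) ((ι.app U.1).hom a) = 0 := fun a ha => by
      have h := DefLib.mem_of_algebraMap_mul_mem (R := Γ(ZB, U.1) ⧸ K') LCIDefLib.maximalIdeal_isNilpotent
        (J' := ⊥) (ε := t) ht0 (a := Ideal.Quotient.mk K' a) (by
          rw [Ideal.map_bot, Ideal.mem_bot, IsScalarTower.algebraMap_apply B Γ(ZB, U.1) (Γ(ZB, U.1) ⧸ K'),
            Ideal.Quotient.algebraMap_eq, ← map_mul, Ideal.Quotient.eq_zero_iff_mem, mul_comm]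
          exact ha)
      rw [IsScalarTower.algebraMap_eq B Γ(ZB, U.1) (Γ(ZB, U.1) ⧸ K'), ← Ideal.map_map,
        Ideal.Quotient.algebraMap_eq, ← Ideal.mem_comap, Ideal.comap_map_of_surjective' _ Ideal.Quotient.mk_surjective,
        Ideal.mk_ker] at h
      refine (GenFlatStrat.subschemeι_app_eq_zero_iff I₀ ⟨_, U.2.preimage ι⟩ _).2 ((hq0 U a).2 ?_)
      rw [sup_comm] at h
      exact sup_le_sup_right hK'le _ h
    have hrep : ∀ z : Γ(T, ι ⁻¹ᵁ U.1), ∃ (s : Γ(F, U.1)) (a : Γ(ZB, U.1)),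
        puSec ι s = z ∧ val U.1 s - a * sB x U.1 t ∈ K' := fun z => by
      obtain ⟨s, rfl⟩ := (puSec_closed ι F U.2).1 z
      obtain ⟨q, hq, a, hqa⟩ := hKsum _ (val_mem U s)
      exact ⟨s, a, rfl, by rwa [hqa, add_sub_cancel_right]⟩
    choose sec num hsec hnum using hrep
    let R₀ : Γ(T, ι ⁻¹ᵁ U.1) → Γ(ClSub.quotMod I₀, ι ⁻¹ᵁ U.1) := fun z =>
      (ClSub.toSubscheme I₀).app (ι ⁻¹ᵁ U.1) ((ι.app U.1).hom (num z))
    have huniq : ∀ (z : Γ(T, ι ⁻¹ᵁ U.1)) (s : Γ(F, U.1)) (a : Γ(ZB, U.1)), puSec ι s = z →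
        val U.1 s - a * sB x U.1 t ∈ K' →
          R₀ z = (ClSub.toSubscheme I₀).app (ι ⁻¹ᵁ U.1) ((ι.app U.1).hom a) := fun z s a hs ha => by
      have h1 : puSec ι (sec z - s) = 0 := by
        have h5 := map_sub (((Scheme.Modules.pullbackPushforwardAdjunction ι).unit.app F).app U.1).hom (sec z) s
        exact h5.trans (sub_eq_zero.2 ((hsec z).trans hs.symm))
      rw [hker_pu] at h1
      have h4 := val_add (sec z - s) s
      rw [sub_add_cancel] at h4
      have h2 : (num z - a) * sB x U.1 t ∈ K' := by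
        have h6 := add_mem (sub_mem ha (hnum z)) (hmK h1)
        convert h6 using 1
        rw [h4]; ring
      have h3 := hdiv _ h2
      rw [map_sub] at h3
      exact sub_eq_zero.1 ((map_sub ((ClSub.toSubscheme I₀).app (ι ⁻¹ᵁ U.1)).hom _ _).symm.trans h3)
    refine ⟨{ toFun := R₀, map_add' := fun z z' => ?_, map_smul' := fun r z => ?_ }, fun y => ?_⟩
    · refine (huniq _ (sec z + sec z') (num z + num z') ?_ ?_).trans ?_
      · exact (map_add (((Scheme.Modules.pullbackPushforwardAdjunction ι).unit.app F).app U.1).hom _ _).trans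
          (congrArg₂ (· + ·) (hsec z) (hsec z'))
      · rw [val_add, add_mul, add_sub_add_comm]
        exact add_mem (hnum z) (hnum z')
      · rw [map_add]
        exact map_add ((ClSub.toSubscheme I₀).app (ι ⁻¹ᵁ U.1)).hom _ _
    · obtain ⟨c, rfl⟩ := hsurjι U r
      refine (huniq _ (c • sec z) (c * num z) ?_ ?_).trans ?_
      · exact (KFlatLib.puSec_smul ι c (sec z)).trans (congrArg (fun w => (ι.app U.1).hom c • w) (hsec z))
      · rw [val_smul, mul_assoc, ← mul_sub]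
        exact Ideal.mul_mem_left _ _ (hnum z)
      · rw [map_mul, RingHom.id_apply]
        exact QCohLib.app_smul (ClSub.toSubscheme I₀) (ι ⁻¹ᵁ U.1) _ _
    · obtain ⟨p, rfl⟩ := hlift U y
      refine huniq _ (p • sU U.1) p (hκp U p).symm ?_
      rw [val_smul, val_sU, sub_self]
      exact zero_mem _
  -- splitting
  obtain ⟨r, hr⟩ := hSplit T κ ε hκε ‹Coh.IsQCoh T› hS hinj hret
  haveI : Coh.IsQCoh ((Scheme.Modules.pushforward ι).obj (ClSub.quotMod I₀)) := QCohLib.isQCoh_pushforward _ _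
  let ρ : F ⟶ (Scheme.Modules.pushforward ι).obj (ClSub.quotMod I₀) :=
    (Scheme.Modules.pullbackPushforwardAdjunction ι).homEquiv _ _ r
  haveI : Coh.IsQCoh (kernel ρ) := QCohLib.isQCoh_kernel ρ
  let I' : (ZB).IdealSheafData := MiscFlat6.idealOfSub (kernel.ι ρ ≫ ClSub.idealModι Kt)
  have hI' : ∀ (U : (ZB).affineOpens) (p : Γ(ZB, U.1)),
      p ∈ I'.ideal U ↔ ∃ s, r.app (ι ⁻¹ᵁ U.1) (puSec ι s) = 0 ∧ val U.1 s = p := fun U p => by
    constructor
    · rintro ⟨a, rfl⟩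
      refine ⟨(kernel.ι ρ).app U.1 a, ?_, rfl⟩
      rw [← homEquiv_app ι r]
      exact congrArg (fun θ : kernel ρ ⟶ _ => θ.app U.1 a) (kernel.condition ρ)
    · rintro ⟨s, hs, rfl⟩
      obtain ⟨a, ha⟩ := QCohLib.exists_of_app_eq_zero (S := ShortComplex.mk (kernel.ι ρ) ρ (kernel.condition ρ))
        (ShortComplex.exact_of_f_is_kernel _ (kernelIsKernel ρ)) (inferInstanceAs (Mono (kernel.ι ρ))) s
        ((homEquiv_app ι r U.1 s).trans hs)
      exact ⟨a, congrArg (val U.1) ha⟩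
  have hle : ∀ U : (ZB).affineOpens, I'.ideal U ≤ Kt.ideal U := fun U p hp => by
    obtain ⟨s, -, rfl⟩ := (hI' U p).1 hp
    exact val_mem U s
  have hm' : ∀ U : (ZB).affineOpens, (maximalIdeal B).map (sB x U.1) * Kt.ideal U ≤ I'.ideal U := fun U p hp => by
    obtain ⟨s, rfl⟩ := val_surj U p (Ideal.mul_le_right hp)
    exact (hI' U _).2 ⟨s, by rw [(hker_pu U s).2 hp, map_zero], rfl⟩
  have hrt : ∀ (U : (ZB).affineOpens) (p : Γ(ZB, U.1)), r.app (ι ⁻¹ᵁ U.1) (puSec ι (p • sU U.1)) =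
      (ClSub.toSubscheme I₀).app (ι ⁻¹ᵁ U.1) ((ι.app U.1).hom p) := fun U p => by
    rw [← hκp]
    show (κ ≫ r).app _ _ = _
    rw [hr]
    rfl
  have hsum : ∀ U : (ZB).affineOpens, Kt.ideal U ≤ I'.ideal U ⊔ Ideal.span {sB x U.1 t} := fun U p hp => by
    obtain ⟨s, rfl⟩ := val_surj U p hp
    obtain ⟨a, ha⟩ := hlift U (r.app _ (puSec ι s))
    have h0 : r.app (ι ⁻¹ᵁ U.1) (puSec ι (s - a • sU U.1)) = 0 := by
      have h5 := map_sub (((Scheme.Modules.pullbackPushforwardAdjunction ι).unit.app F).app U.1).hom s (a • sU U.1)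
      refine (congrArg (r.app (ι ⁻¹ᵁ U.1)) h5).trans ?_
      refine (map_sub (r.app (ι ⁻¹ᵁ U.1)).hom _ _).trans ?_
      exact sub_eq_zero.2 (ha.symm.trans (hrt U a).symm)
    have : val U.1 s = val U.1 (s - a • sU U.1) + a * sB x U.1 t := by
      rw [← val_sU, ← val_smul, ← val_add, sub_add_cancel]
    rw [this]
    exact Submodule.add_mem_sup ((hI' U _).2 ⟨_, h0, rfl⟩) (Ideal.mem_span_singleton'.2 ⟨a, rfl⟩)
  have hAB : ∀ U : (ZB).affineOpens, (I'.ideal U).map ((jμ).app U.1).hom =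
      IA.1.ideal ⟨(jμ) ⁻¹ᵁ U.1, U.2.preimage _⟩ := fun U => by
    letI := (sB x U.1).toAlgebra
    letI := (str (R := CommRingCat.of A) (ArtFun.Art.XApr x A) ((jμ) ⁻¹ᵁ U.1)).hom.toAlgebra
    have hsm := small_affine x μ hμ hker ht U.2
    have h1 : IA.1.ideal ⟨(jμ) ⁻¹ᵁ U.1, U.2.preimage _⟩ = (Kt.ideal U).map ((jμ).app U.1).hom := by
      rw [hKU, Ideal.map_comap_of_surjective _ hsm.π_surj]
    rw [h1]
    refine le_antisymm (Ideal.map_mono (hle U)) ((Ideal.map_mono (hsum U)).trans ?_)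
    rw [Ideal.map_sup]
    refine sup_le le_rfl ((le_of_eq ?_).trans bot_le)
    rw [Ideal.map_span, Set.image_singleton, Ideal.span_singleton_eq_bot]
    exact RingHom.mem_ker.1 (hsm.ker_π.ge (Ideal.mem_map_of_mem _ (Ideal.mem_span_singleton_self t)))
  have hmap : I'.comap jμ = IA.1 := by
    refine Scheme.IdealSheafData.ext_of_iSup_eq_top
      (fun V : (ZB).affineOpens => (⟨(jμ) ⁻¹ᵁ V.1, V.2.preimage _⟩ : (ArtFun.Art.XA x A).affineOpens)) ?_ fun V => ?_
    · refine eq_top_iff.2 fun p _ => ?_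
      obtain ⟨W, hW, hpW⟩ := QCohLib.exists_affine_nhd ((jμ) p)
      exact Opens.mem_iSup.2 ⟨⟨W, hW⟩, hpW⟩
    · rw [← RGFlatLib.ideal_comap_appLE (jμ) I' V.2 (V.2.preimage _) le_rfl, ← Scheme.Hom.app_eq_appLE]
      exact hAB V
  have hflat : ArtFun.FlatOver X x B I' := by
    refine (flat_subscheme_iff (R := CommRingCat.of B) I' (ArtFun.Art.XApr x B)).2 fun U => ?_
    letI := (sB x U.1).toAlgebra
    haveI := flat_affine x (B := B) U.2
    refine RingHom.flat_algebraMap_iff.2 (flat_quotient_of_inf_le (I'.ideal U) ?_)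
    have hmK : (maximalIdeal B).map (sB x U.1) * Kt.ideal U ≤ (maximalIdeal B).map (sB x U.1) * I'.ideal U := by
      refine (Ideal.mul_mono le_rfl (hsum U)).trans ?_
      rw [Ideal.mul_sup]
      refine sup_le le_rfl (le_trans (Ideal.mul_le.2 fun m hm w hw => ?_) (bot_le : ⊥ ≤ _))
      obtain ⟨a, rfl⟩ := Ideal.mem_span_singleton'.1 hw
      letI := (str (R := CommRingCat.of A) (ArtFun.Art.XApr x A) ((jμ) ⁻¹ᵁ U.1)).hom.toAlgebra
      rw [Ideal.mem_bot, show m * (a * sB x U.1 t) = a * (sB x U.1 t * m) by ring]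
      have h6 : sB x U.1 t * m = 0 := (small_affine x μ hμ hker ht U.2).t_mul m hm
      rw [h6, mul_zero]
    rintro p ⟨hpm, hp'⟩
    obtain ⟨a, ha, b, hb, rfl⟩ := Submodule.mem_sup.1 (hinfl U ⟨hpm, hle U hp'⟩)
    refine add_mem ?_ (hmK hb)
    have ha' : a ∈ I'.ideal U := by
      have h := sub_mem hp' (hm' U hb)
      rwa [add_sub_cancel_right] at h
    rw [Ideal.map_span, Set.image_singleton] at ha
    obtain ⟨c, rfl⟩ := Ideal.mem_span_singleton'.1 ha
    obtain ⟨s, hs, hsv⟩ := (hI' U _).1 ha'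
    have hs' : s = c • sU U.1 := val_inj (by rw [hsv, val_smul, val_sU])
    rw [hs', hrt] at hs
    have hc := (hq0 U c).1 ((GenFlatStrat.subschemeι_app_eq_zero_iff I₀ ⟨_, U.2.preimage ι⟩ _).1 hs)
    obtain ⟨c₁, hc₁, c₂, hc₂, rfl⟩ := Submodule.mem_sup.1 hc
    have h7 : sB x U.1 t * c₂ = 0 := by
      letI := (str (R := CommRingCat.of A) (ArtFun.Art.XApr x A) ((jμ) ⁻¹ᵁ U.1)).hom.toAlgebra
      exact (small_affine x μ hμ hker ht U.2).t_mul c₂ hc₂
    rw [add_mul, mul_comm c₂, h7, add_zero, mul_comm c₁]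
    exact hmK (Ideal.mul_mem_mul (Ideal.mem_map_of_mem _ (mem_max_of_ker μ (RingHom.mem_ker.1
      (hker.ge (Ideal.mem_span_singleton_self t))))) hc₁)
  refine ⟨⟨I', hflat, ?_⟩, Subtype.ext hmap⟩
  rw [← ArtFun.Art.XAincl_XAmap x μ, Scheme.IdealSheafData.comap_comp, hmap]
  exact IA.2.2

/-- Lifting along a small extension with principal kernel. -/
theorem exists_lift_small [HasExt.{u} X.Modules]
    (hExt : Subsingleton (Abelian.Ext.{u} (ClSub.idealMod I₀) (ClSub.quotMod I₀) 1))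
    (hμ : Function.Surjective μ.toAlgHom) {t : B} (hker : RingHom.ker μ.toAlgHom.toRingHom = Ideal.span {t})
    (ht : ∀ c ∈ maximalIdeal B, c * t = 0) (ht0 : t ≠ 0) (IA : (ArtFun.localHilb X x I₀).obj A) :
    ∃ IB, (ArtFun.localHilb X x I₀).map μ IB = IA :=
  exists_lift_small_of_split x I₀ μ (splitsLocKR_of_ext x I₀ hExt) hμ hker ht ht0 IA

end HilbObsLib
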