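import Groth.Agent.FMKLib.LocFreeHom
import Groth.Agent.Dual3Lib.ExtHH
import Groth.Agent.HilbPolyLib.Twist

/-!
# Extensions of a locally free module by the structure sheaf
-/

set_option autoImplicit false
set_option linter.style.haveILetI false
set_option linter.unusedSectionVars false
set_option backward.isDefEq.respectTransparency false
set_option backward.isDefEq.respectTransparency.types false
set_option maxHeartbeats 1000000
set_option synthInstance.maxHeartbeats 200000
universe u

open CategoryTheory CategoryTheory.Limits AlgebraicGeometry CategoryTheory.Abelian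

noncomputable section

namespace HilbObsLib

/-- An extension of a locally free `C` by `O` splits when `H¹(Hom(C, O)) = 0`. -/
theorem exists_retraction_of_H1 {Y : Scheme.{u}} {S : ShortComplex Y.Modules} (hS : S.ShortExact)
    (hlf : FlatMod.IsFinLocFree S.X₃) [DCoh.HasSheafHom S.X₃]
    (h1 : Subsingleton (Coh.HH Y ((DCoh.sheafHom S.X₃).obj S.X₁) 1)) :
    ∃ r : S.X₂ ⟶ S.X₁, S.f ≫ r = 𝟙 _ := by
  haveI : EnoughInjectives Y.Modules := IsGrothendieckAbelian.enoughInjectives.{u}
  let H := DCoh.sheafHom S.X₃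
  let adj := DCoh.sheafHomAdj S.X₃
  haveI : PreservesLimitsOfSize.{0, 0} H := adj.rightAdjoint_preservesLimits
  haveI : PreservesFiniteLimits H := PreservesLimitsOfSize.preservesFiniteLimits _
  haveI : H.Additive := adj.right_adjoint_additive
  haveI : PreservesFiniteColimits H := Groth.Agent.FMKLib.preservesFiniteColimits_sheafHom S.X₃ hlf
  have hHS := hS.map_of_exact H
  haveI h1' : Subsingleton (Coh.HH Y ((S.map H).X₁) 1) := h1
  haveI : Subsingleton (Ext.{u} (Coh.structureModule Y) (S.map H).X₁ 1) :=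
    (Groth.Agent.Dual3Lib.bijective_extHH ((S.map H).X₁) 1).1.subsingleton
  let e : ((DCoh.tensorBi (X := Y)).obj S.X₃).obj (Coh.structureModule Y) ≅ S.X₃ :=
    HilbPolyLib.swapIso S.X₃ (Coh.structureModule Y) ≪≫ HilbPolyLib.unitLeft S.X₃
  let v : Coh.structureModule Y ⟶ H.obj S.X₃ := adj.homEquiv _ _ e.hom
  obtain ⟨w, hw⟩ := Ext.covariant_sequence_exact₃ (Coh.structureModule Y) hHS (Ext.mk₀ v) (rfl : 0 + 1 = 1)
    (Subsingleton.elim _ _)
  obtain ⟨w, rfl⟩ := (Ext.mk₀_bijective _ _).2 w
  rw [Ext.mk₀_comp_mk₀] at hw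
  have hwv : w ≫ H.map S.g = v := (Ext.mk₀_bijective _ _).1 hw
  let σ : S.X₃ ⟶ S.X₂ := e.inv ≫ (adj.homEquiv _ _).symm w
  have hσ : σ ≫ S.g = 𝟙 _ := by
    rw [Category.assoc, ← Adjunction.homEquiv_naturality_right_symm, hwv, Equiv.symm_apply_apply, Iso.inv_hom_id]
  exact ⟨(ShortComplex.Splitting.ofExactOfSection S hS.exact σ hσ hS.mono_f).r,
    (ShortComplex.Splitting.ofExactOfSection S hS.exact σ hσ hS.mono_f).f_r⟩

end HilbObsLib
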