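import Groth.Agent.HilbObsLib.Induct
import Groth.Agent.HilbObsLib.Split
import Groth.Agent.FLILib.Conormal
import Groth.Agent.CohCmpLib.FrameTools
import Groth.Agent.RegLCILib.Local

/-!
# The extension splits for a regular immersion with `H¹(N) = 0`
-/

set_option autoImplicit false
set_option linter.style.haveILetI false
set_option linter.unusedSectionVars false
set_option backward.isDefEq.respectTransparency false
set_option backward.isDefEq.respectTransparency.types false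
set_option maxHeartbeats 1000000
universe u

open CategoryTheory CategoryTheory.Limits AlgebraicGeometry TopologicalSpace Opposite
open KFlatLib (pb puSec)

noncomputable section

namespace HilbObsLib

variable {X Y : Scheme.{u}}

/-- The conormal sheaf of a regular immersion is locally free. -/
theorem isFinLocFree_conormal (i : Y ⟶ X) (hi : Mor2.IsRegularClosedImmersion i) :
    FlatMod.IsFinLocFree (Omega.conormal i) := by
  haveI := hi.1
  refine CohCmpLib.isFinLocFree_of_frames fun y => ?_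
  obtain ⟨U, hU, hy, rs, hrs, hI⟩ := hi.2 y
  have hc : FLI.IsChart i (⟨U, hU⟩ : X.affineOpens) (fun j : Fin rs.length => rs.get (j.cast rfl)) := by
    refine ⟨hI.trans ?_, FLI.wReg_of_isWeaklyRegular rs hrs.toIsWeaklyRegular rfl⟩
    exact ((TransLib.ofList_ofFn _).symm.trans (congrArg Ideal.ofList (List.ofFn_get rs))).symm
  exact ⟨i ⁻¹ᵁ U, rs.length, hc.eU, hy, fun z hz => hc.frame z hz⟩

/-- Koszul regularity on small affine neighbourhoods. -/
theorem exists_locKR_nhd (I : X.IdealSheafData) (hreg : Mor2.IsRegularClosedImmersion I.subschemeι)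
    (y : I.subscheme) : ∃ W : X.Opens, I.subschemeι y ∈ W ∧
      ∀ V : X.affineOpens, V.1 ≤ W → KRLib.LocKR (I.ideal V) := by
  obtain ⟨U, hU, hy, rs, hrs, hI⟩ := hreg.2 y
  rw [Scheme.IdealSheafData.ker_subschemeι] at hI
  refine ⟨U, hy, fun V hV => ?_⟩
  have hflat : (X.presheaf.map (homOfLE hV).op).hom.Flat := by
    have h := HasRingHomProperty.appLE @Flat (𝟙 X) inferInstance ⟨U, hU⟩ V hV
    simpa [Scheme.Hom.appLE] using h
  letI := (X.presheaf.map (homOfLE hV).op).hom.toAlgebra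
  haveI : Module.Flat Γ(X, U) Γ(X, V.1) := hflat
  rw [← I.map_ideal (U := V) (V := ⟨U, hU⟩) hV]
  exact ((RegLCILib.krGen_of_regular hrs.toIsWeaklyRegular hI.symm).map_flat (R := Γ(X, V.1))).locKR

variable {k : Type u} [Field k] (x : X ⟶ ArtFun.Art.specPt k) (I₀ : X.IdealSheafData)

/-- A retraction of an extension of `I₀` from a retraction on the closed subscheme. -/
theorem exists_retraction_of_pullback [IsLocallyNoetherian X] {T : X.Modules} [Coh.IsQCoh T]
    (κ : ClSub.quotMod I₀ ⟶ T) (ε : T ⟶ ClSub.idealMod I₀) (w : κ ≫ ε = 0)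
    (hS : (ShortComplex.mk κ ε w).ShortExact)
    (hcover : ∀ y : I₀.subscheme, ∃ V : X.affineOpens, y ∈ I₀.subschemeι ⁻¹ᵁ V.1 ∧
      ∀ z : Γ(ClSub.quotMod I₀, V.1),
        κ.app V.1 z ∈ I₀.ideal V • (⊤ : Submodule Γ(X, V.1) Γ(T, V.1)) → z = 0)
    (hret : ∀ (E : I₀.subscheme.Modules) (f : Coh.structureModule I₀.subscheme ⟶ E)
      (g : E ⟶ Omega.conormal I₀.subschemeι) (w : f ≫ g = 0), (ShortComplex.mk f g w).ShortExact →
      Coh.IsQCoh E →
      (∀ V : X.affineOpens, (∃ ρ : Γ(T, V.1) →ₗ[Γ(X, V.1)] Γ(ClSub.quotMod I₀, V.1), ∀ y, ρ (κ.app V.1 y) = y) →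
        ∃ ρ' : Γ(E, I₀.subschemeι ⁻¹ᵁ V.1) →ₗ[Γ(I₀.subscheme, I₀.subschemeι ⁻¹ᵁ V.1)]
          Γ(Coh.structureModule I₀.subscheme, I₀.subschemeι ⁻¹ᵁ V.1),
          ∀ z, ρ' (f.app (I₀.subschemeι ⁻¹ᵁ V.1) z) = z) →
        ∃ r : E ⟶ Coh.structureModule I₀.subscheme, f ≫ r = 𝟙 _) :
    ∃ r : T ⟶ ClSub.quotMod I₀, κ ≫ r = 𝟙 _ := by
  let i := I₀.subschemeι
  let O := Coh.structureModule I₀.subscheme
  haveI : Coh.IsQCoh O := QCohLib.isQCoh_unit
  haveI : Coh.IsQCoh (Coh.structureModule X) := QCohLib.isQCoh_unit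
  haveI : Coh.IsQCoh (ClSub.quotMod I₀) := QCohLib.isQCoh_pushforward _ _
  haveI : Coh.IsQCoh (ClSub.idealMod I₀) := SweepSix.ConormalSpec.isQCoh_idealMod I₀
  haveI : Coh.IsQCoh (pb i T) := KFlatLib.isQCoh_pullback i T
  haveI : Coh.IsQCoh (pb i (ClSub.idealMod I₀)) := KFlatLib.isQCoh_pullback i _
  let one : ∀ V : X.Opens, Γ(Coh.structureModule X, V) := fun V => (1 : Γ(X, V))
  let q : ∀ V : X.Opens, Γ(T, V) := fun V => κ.app V ((ClSub.toSubscheme I₀).app V (one V))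
  have hq : ∀ (V : X.Opens), T.presheaf.map (homOfLE (le_top : V ≤ ⊤)).op (q ⊤) = q V := fun V => by
    refine (QCohLib.app_map (ClSub.toSubscheme I₀ ≫ κ) (homOfLE (le_top : V ≤ ⊤)) (one ⊤)).symm.trans ?_
    exact congrArg ((ClSub.toSubscheme I₀ ≫ κ).app V) (map_one (X.presheaf.map (homOfLE (le_top : V ≤ ⊤)).op).hom)
  let f : O ⟶ pb i T := QCohLib.unitHom (pb i T) (puSec i (q ⊤))
  have hf : ∀ (V : X.Opens) (p : Γ(X, V)),
      f.app (i ⁻¹ᵁ V) ((i.app V).hom p) = puSec i (κ.app V ((ClSub.toSubscheme I₀).app V p)) := fun V p => by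
    rw [QCohLib.unitHom_app]
    have h2 : (pb i T).presheaf.map (homOfLE (le_top : i ⁻¹ᵁ V ≤ ⊤)).op (puSec i (q ⊤)) = puSec i (q V) := by
      rw [← hq V]
      exact (puSec_res i (le_top : V ≤ ⊤) (q ⊤)).symm
    refine (congrArg (fun z => (i.app V).hom p • z) h2).trans ?_
    refine (KFlatLib.puSec_smul i p (q V)).symm.trans (congrArg (puSec i) ?_)
    refine (QCohLib.app_smul (ClSub.toSubscheme I₀ ≫ κ) V p (one V)).symm.trans ?_
    exact congrArg ((ClSub.toSubscheme I₀ ≫ κ).app V) (mul_one p)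
  let g : pb i T ⟶ pb i (ClSub.idealMod I₀) := (Scheme.Modules.pullback i).map ε
  have hg : ∀ (V : X.Opens) (s : Γ(T, V)), g.app (i ⁻¹ᵁ V) (puSec i s) = puSec i (ε.app V s) := fun V s =>
    (congr($(congrArg (fun η => Scheme.Modules.Hom.app η V)
      ((Scheme.Modules.pullbackPushforwardAdjunction i).unit.naturality ε)) s)).symm
  have hzero : ∀ {V : X.affineOpens} (m : Γ(T, V.1)),
      puSec i m = 0 ↔ m ∈ I₀.ideal V • (⊤ : Submodule Γ(X, V.1) Γ(T, V.1)) := fun {V} m => by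
    rw [(puSec_closed i T V.2).2 m, Scheme.IdealSheafData.ker_subschemeι_app]
  have hfg : f ≫ g = 0 := eq_zero_of_app _ fun y => by
    obtain ⟨V, hyV, -⟩ := hcover y
    refine ⟨i ⁻¹ᵁ V.1, V.2.preimage i, hyV, fun z => ?_⟩
    obtain ⟨p, rfl⟩ := Scheme.Hom.app_surjective i V.1 V.2 z
    show g.app _ (f.app _ _) = 0
    rw [hf, hg]
    refine (congrArg (puSec i) (congrArg (fun θ => Scheme.Modules.Hom.app θ V.1 _) w)).trans ?_
    exact map_zero (((Scheme.Modules.pullbackPushforwardAdjunction i).unit.app _).app V.1).hom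
  let S : ShortComplex I₀.subscheme.Modules := ShortComplex.mk f g hfg
  haveI : Coh.IsQCoh S.X₁ := ‹Coh.IsQCoh O›
  haveI : Coh.IsQCoh S.X₂ := ‹Coh.IsQCoh (pb i T)›
  haveI : Coh.IsQCoh S.X₃ := ‹Coh.IsQCoh (pb i (ClSub.idealMod I₀))›
  haveI : Coh.IsQCoh (ShortComplex.mk κ ε w).X₁ := ‹Coh.IsQCoh (ClSub.quotMod I₀)›
  have hεs : ∀ V : X.affineOpens, Function.Surjective (ε.app V.1) := fun V =>
    QCohLib.app_surjective_of_affine hS V.2
  have hSE : S.ShortExact := by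
    refine { exact := exact_of_app S fun y => ?_, mono_f := DevissExt.mono_of_app_injective f fun y => ?_,
             epi_g := epi_of_app_surjective g fun y => ?_ }
    · obtain ⟨V, hyV, -⟩ := hcover y
      refine ⟨i ⁻¹ᵁ V.1, V.2.preimage i, hyV, fun z hz => ?_⟩
      obtain ⟨s, rfl⟩ := (puSec_closed i T V.2).1 z
      have h2 : puSec i (ε.app V.1 s) = 0 := (hg V.1 s).symm.trans hz
      rw [(puSec_closed i (ClSub.idealMod I₀) V.2).2, Scheme.IdealSheafData.ker_subschemeι_app] at h2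
      obtain ⟨a, ha, hae⟩ : ∃ a ∈ I₀.ideal V • (⊤ : Submodule Γ(X, V.1) Γ(T, V.1)), ε.app V.1 a = ε.app V.1 s := by
        refine Submodule.smul_induction_on h2 (fun r hr m _ => ?_) ?_
        · obtain ⟨a, rfl⟩ := hεs V m
          exact ⟨r • a, Submodule.smul_mem_smul hr Submodule.mem_top, QCohLib.app_smul ε V.1 r a⟩
        · rintro _ _ ⟨a, ha, rfl⟩ ⟨b, hb, rfl⟩
          exact ⟨a + b, add_mem ha hb, map_add (ε.app V.1).hom a b⟩
      obtain ⟨r, hr⟩ := QCohLib.exists_of_app_eq_zero hS.exact hS.mono_f (s - a)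
        ((map_sub (ε.app V.1).hom s a).trans (sub_eq_zero.2 hae.symm))
      obtain ⟨p, rfl⟩ := Scheme.Hom.app_surjective i V.1 V.2 r
      refine ⟨(i.app V.1).hom p, (hf V.1 p).trans ?_⟩
      refine (congrArg (puSec i) hr).trans ?_
      refine (map_sub (((Scheme.Modules.pullbackPushforwardAdjunction i).unit.app T).app V.1).hom s a).trans ?_
      exact sub_eq_self.2 ((hzero a).2 ha)
    · obtain ⟨V, hyV, hz⟩ := hcover y
      refine ⟨i ⁻¹ᵁ V.1, V.2.preimage i, hyV, (injective_iff_map_eq_zero _).2 fun z hz0 => ?_⟩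
      obtain ⟨p, rfl⟩ := Scheme.Hom.app_surjective i V.1 V.2 z
      exact hz _ ((hzero _).1 ((hf V.1 p).symm.trans hz0))
    · obtain ⟨V, hyV, -⟩ := hcover y
      refine ⟨i ⁻¹ᵁ V.1, V.2.preimage i, hyV, fun z => ?_⟩
      obtain ⟨s, rfl⟩ := (puSec_closed i (ClSub.idealMod I₀) V.2).1 z
      obtain ⟨a, rfl⟩ := hεs V s
      exact ⟨puSec i a, hg V.1 a⟩
  have hC : pb i (ClSub.idealMod I₀) = Omega.conormal i := by
    rw [Omega.conormal, Scheme.IdealSheafData.ker_subschemeι]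
  have hρ : ∀ V : X.affineOpens,
      (∃ ρ : Γ(T, V.1) →ₗ[Γ(X, V.1)] Γ(ClSub.quotMod I₀, V.1), ∀ y, ρ (κ.app V.1 y) = y) →
        ∃ ρ' : Γ(pb i T, i ⁻¹ᵁ V.1) →ₗ[Γ(I₀.subscheme, i ⁻¹ᵁ V.1)] Γ(O, i ⁻¹ᵁ V.1),
          ∀ z, ρ' (f.app (i ⁻¹ᵁ V.1) z) = z := by
    rintro V ⟨ρ, hρκ⟩
    choose sec hsec using (puSec_closed i T V.2).1
    have hwd : ∀ (z : Γ(pb i T, i ⁻¹ᵁ V.1)) (s : Γ(T, V.1)), puSec i s = z → ρ (sec z) = ρ s := fun z s hs => by
      have h1 : puSec i (sec z - s) = 0 := by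
        have h5 := map_sub (((Scheme.Modules.pullbackPushforwardAdjunction i).unit.app T).app V.1).hom (sec z) s
        exact h5.trans (sub_eq_zero.2 ((hsec z).trans hs.symm))
      rw [hzero] at h1
      refine sub_eq_zero.1 ((map_sub ρ _ _).symm.trans ?_)
      refine Submodule.smul_induction_on h1 (fun r hr m _ => ?_) (fun a b ha hb => by rw [map_add, ha, hb, add_zero])
      rw [map_smul]
      show @HMul.hMul Γ(I₀.subscheme, i ⁻¹ᵁ V.1) Γ(I₀.subscheme, i ⁻¹ᵁ V.1) Γ(I₀.subscheme, i ⁻¹ᵁ V.1) _ ((i.app V.1).hom r) (ρ m) = 0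
      rw [show (i.app V.1).hom r = 0 from (GenFlatStrat.subschemeι_app_eq_zero_iff I₀ V r).2 hr, zero_mul]
    refine ⟨{ toFun := fun z => ρ (sec z), map_add' := fun z z' => ?_, map_smul' := fun c z => ?_ }, fun z => ?_⟩
    · refine (hwd _ (sec z + sec z') ?_).trans (map_add ρ _ _)
      exact (map_add (((Scheme.Modules.pullbackPushforwardAdjunction i).unit.app T).app V.1).hom _ _).trans
        (congrArg₂ (· + ·) (hsec z) (hsec z'))
    · obtain ⟨a, rfl⟩ := Scheme.Hom.app_surjective i V.1 V.2 c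
      refine (hwd _ (a • sec z) ?_).trans ?_
      · exact (KFlatLib.puSec_smul i a (sec z)).trans (congrArg (fun v => (i.app V.1).hom a • v) (hsec z))
      · exact map_smul ρ a (sec z)
    · obtain ⟨p, rfl⟩ := Scheme.Hom.app_surjective i V.1 V.2 z
      exact (hwd _ _ (hf V.1 p).symm).trans (hρκ _)
  obtain ⟨r', hr'⟩ : ∃ r' : pb i T ⟶ O, f ≫ r' = 𝟙 _ := by
    have key : ∀ (C : I₀.subscheme.Modules), C = Omega.conormal i → ∀ (g' : pb i T ⟶ C) (hw : f ≫ g' = 0),
        (ShortComplex.mk f g' hw).ShortExact → ∃ r' : pb i T ⟶ O, f ≫ r' = 𝟙 _ := by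
      intro C hC' g' hw hE
      subst hC'
      exact hret _ f g' hw hE ‹Coh.IsQCoh (pb i T)› hρ
    exact key _ hC g hfg hSE
  refine ⟨(Scheme.Modules.pullbackPushforwardAdjunction i).homEquiv _ _ r', ?_⟩
  rw [← sub_eq_zero]
  refine eq_zero_of_app _ fun p => ?_
  obtain ⟨V, hV, hpV⟩ := QCohLib.exists_affine_nhd p
  refine ⟨V, hV, hpV, fun z => ?_⟩
  obtain ⟨a, rfl⟩ := Scheme.Hom.app_surjective i V hV z
  show ((Scheme.Modules.pullbackPushforwardAdjunction i).homEquiv _ _ r').app V (κ.app V _) - _ = 0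
  rw [sub_eq_zero]
  refine (homEquiv_app i r' V _).trans ((congrArg (r'.app (i ⁻¹ᵁ V)) (hf V a)).symm.trans ?_)
  exact congrArg (fun θ : O ⟶ O => θ.app (i ⁻¹ᵁ V) ((i.app V).hom a)) hr'

/-- Extensions of `I₀` split if extensions of the conormal sheaf by the structure sheaf do. -/
theorem splitsLocKR_of_retraction [LocallyOfFiniteType x] (hreg : Mor2.IsRegularClosedImmersion I₀.subschemeι)
    (hret : ∀ (E : I₀.subscheme.Modules) (f : Coh.structureModule I₀.subscheme ⟶ E)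
      (g : E ⟶ Omega.conormal I₀.subschemeι) (w : f ≫ g = 0), (ShortComplex.mk f g w).ShortExact →
        ∃ r : E ⟶ Coh.structureModule I₀.subscheme, f ≫ r = 𝟙 _) : SplitsLocKR x I₀ := by
  intro T κ ε w hTq hS hinj _
  haveI := hTq
  haveI : IsLocallyNoetherian X := LocallyOfFiniteType.isLocallyNoetherian x
  refine exists_retraction_of_pullback I₀ κ ε w hS (fun y => ?_) fun E f g w' hE _ _ => hret E f g w' hE
  obtain ⟨W', hy', hW'⟩ := exists_locKR_nhd I₀ hreg y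
  obtain ⟨V, hV, hyV, hz⟩ := hinj W' (I₀.subschemeι y) hy'
  exact ⟨V, hyV, hz ‹_› (hW' V hV)⟩

/-- Extensions by `O/I₀` split for a regular immersion with vanishing `H¹` of the normal sheaf. -/
theorem splitsLocKR_of_regular [LocallyOfFiniteType x] (hreg : Mor2.IsRegularClosedImmersion I₀.subschemeι)
    [DCoh.HasSheafHom (Omega.conormal I₀.subschemeι)]
    (h1 : Subsingleton (Coh.HH I₀.subscheme ((DCoh.sheafHom (Omega.conormal I₀.subschemeι)).obj
      (Coh.structureModule I₀.subscheme)) 1)) : SplitsLocKR x I₀ :=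
  splitsLocKR_of_retraction x I₀ hreg fun _ _ _ _ hE =>
    exists_retraction_of_H1 hE (isFinLocFree_conormal I₀.subschemeι hreg) h1

/-- The same with `Ext¹(I/I², O) = 0`. -/
theorem splitsLocKR_of_regular_ext [LocallyOfFiniteType x] (hreg : Mor2.IsRegularClosedImmersion I₀.subschemeι)
    [HasExt.{u} I₀.subscheme.Modules]
    (h1 : Subsingleton (Abelian.Ext.{u} (Omega.conormal I₀.subschemeι) (Coh.structureModule I₀.subscheme) 1)) :
    SplitsLocKR x I₀ :=
  splitsLocKR_of_retraction x I₀ hreg fun _ _ _ _ hE => by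
    obtain ⟨x₂, hx₂⟩ := Abelian.Ext.contravariant_sequence_exact₁ hE (Coh.structureModule I₀.subscheme)
      (Abelian.Ext.mk₀ (𝟙 _)) (rfl : 1 + 0 = 1) (h1.elim _ _)
    obtain ⟨r, rfl⟩ := (Abelian.Ext.mk₀_bijective _ _).2 x₂
    rw [Abelian.Ext.mk₀_comp_mk₀] at hx₂
    exact ⟨r, (Abelian.Ext.mk₀_bijective _ _).1 hx₂⟩

end HilbObsLib
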